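import Groth.Agent.Henz21.Flat
import Groth.Agent.Henz21.LocalProps
import Groth.Agent.CAlg7.FlatLimit
import Groth.Agent.CAlg1.Complete
import Mathlib.RingTheory.Etale.Basic
import Mathlib.RingTheory.Flat.FaithfullyFlat.Algebra
import Mathlib.RingTheory.AdicCompletion.LocalRing

/-!
Maps out of a colimit of etale algebras into flat algebras are flat; hence henselizations and
strict henselizations of Noetherian local rings are Noetherian.
-/

set_option autoImplicit false
set_option linter.style.haveILetI false

universe u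

open IsLocalRing
open scoped TensorProduct

namespace Groth.Agent.Brnch26

open Groth.Agent

theorem flat_of_algHom_etale {A B T : Type u} [CommRing A] [CommRing B] [Algebra A B]
    [Algebra.Etale A B] [CommRing T] [Algebra A T] [Module.Flat A T] (φ : B →ₐ[A] T) :
    φ.toRingHom.Flat := by
  let μ : T ⊗[A] B →ₐ[T] T := Algebra.TensorProduct.lift (Algebra.ofId T T) φ fun _ _ => .all _ _
  have h1 : ((Algebra.TensorProduct.includeRight : B →ₐ[A] T ⊗[A] B).toRingHom).Flat := by
    have hl : (algebraMap B (B ⊗[A] T)).Flat := RingHom.flat_algebraMap_iff.2 inferInstance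
    have : (Algebra.TensorProduct.includeRight : B →ₐ[A] T ⊗[A] B).toRingHom =
        (Algebra.TensorProduct.comm A B T).toRingEquiv.toRingHom.comp (algebraMap B (B ⊗[A] T)) :=
      RingHom.ext fun b => (Algebra.TensorProduct.comm_tmul (R := A) b (1 : T)).symm
    rw [this]
    exact hl.comp (RingHom.Flat.of_bijective (Algebra.TensorProduct.comm A B T).bijective)
  have h2 : μ.toRingHom.Flat := by
    letI := μ.toRingHom.toAlgebra
    haveI : IsScalarTower T (T ⊗[A] B) T := IsScalarTower.of_algebraMap_eq fun t => (μ.commutes t).symm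
    haveI := Algebra.Etale.of_restrictScalars T (T ⊗[A] B) T
    show Module.Flat (T ⊗[A] B) T
    infer_instance
  have h3 : μ.toRingHom.comp (Algebra.TensorProduct.includeRight : B →ₐ[A] T ⊗[A] B).toRingHom =
      φ.toRingHom := RingHom.ext fun b => by simp [μ]
  rw [← h3]
  exact h1.comp h2

theorem flat_of_algHom {A K T : Type u} [CommRing A] [CommRing K] [Algebra A K] [CommRing T]
    [Algebra A T] [Module.Flat A T] (φ : Henz21.H A K →ₐ[A] T) : φ.toRingHom.Flat := by
  letI := φ.toRingHom.toAlgebra
  show Module.Flat (Henz21.H A K) T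
  refine Module.Flat.of_forall_isTrivialRelation fun {l f x} hrel => ?_
  have hex : ∀ s : Finset (Fin l), ∃ (i : Henz21.Pt A K) (g : Fin l → i.S),
      ∀ j ∈ s, Henz21.H.incl i (g j) = f j := fun s => by
    classical
    induction s using Finset.induction with
    | empty => exact ⟨Henz21.H.base A K, 0, by simp⟩
    | insert a s ha ih =>
      obtain ⟨i, g, hg⟩ := ih
      obtain ⟨j, t, ht⟩ := Henz21.H.exists_rep (f a)
      refine ⟨CategoryTheory.IsFiltered.max i j, fun b => if b = a then
        (CategoryTheory.IsFiltered.rightToMax i j).φ t else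
        (CategoryTheory.IsFiltered.leftToMax i j).φ (g b), fun b hb => ?_⟩
      by_cases hba : b = a
      · subst hba
        simp only [if_true, Henz21.H.incl_φ, ht]
      · simp only [if_neg hba, Henz21.H.incl_φ, hg b ((Finset.mem_insert.1 hb).resolve_left hba)]
  obtain ⟨i, g, hg⟩ := hex Finset.univ
  let θ : i.S →ₐ[A] T := φ.comp (Henz21.H.incl i)
  have hθ := flat_of_algHom_etale θ
  letI algT : Algebra i.S T := θ.toRingHom.toAlgebra
  letI : Module i.S T := algT.toModule
  haveI : Module.Flat i.S T := hθ
  have hrel' : ∑ j, g j • x j = 0 := by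
    rw [← hrel]
    refine Finset.sum_congr rfl fun j _ => ?_
    show θ (g j) * x j = φ (f j) * x j
    rw [← hg j (Finset.mem_univ j)]
    rfl
  obtain ⟨k, a, y, hy, ha⟩ := Module.Flat.isTrivialRelation_of_sum_smul_eq_zero hrel'
  refine ⟨k, fun j m => Henz21.H.incl i (a j m), y, fun j => ?_, fun m => ?_⟩
  · rw [hy j]; rfl
  · have := congrArg (Henz21.H.incl i) (ha m)
    rw [map_zero, map_sum] at this
    refine Eq.trans (Finset.sum_congr rfl fun j _ => ?_) this
    rw [map_mul, hg j (Finset.mem_univ j)]

variable {A K : Type u} [CommRing A] [IsLocalRing A] [IsNoetherianRing A] [Field K] [Algebra A K]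
  [IsLocalHom (algebraMap A K)]

instance isNoetherianRing_H : IsNoetherianRing (Henz21.H A K) := by
  let S := Henz21.H A K
  let m := maximalIdeal S
  have hm : (maximalIdeal A).map (algebraMap A S) = m := Henz21.H.map_maximalIdeal
  have hfg : m.FG := hm ▸ (maximalIdeal A).fg_of_isNoetherianRing.map _
  let C := AdicCompletion m S
  haveI : IsLocalRing C := AdicCompletion.isLocalRing_of_fg hfg
  haveI : IsLocalHom (algebraMap S C) := AdicCompletion.algebraMap_isLocalHom_of_fg hfg
  haveI : IsNoetherianRing (S ⧸ m) := inferInstanceAs (IsNoetherianRing (ResidueField S))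
  haveI : IsNoetherianRing C := CAlg1.isNoetherianRing_adicCompletion m hfg
  have hmC : (maximalIdeal A).map (algebraMap A C) = maximalIdeal C := by
    rw [IsScalarTower.algebraMap_eq A S C, ← Ideal.map_map, hm,
      AdicCompletion.maximalIdeal_eq_map_of_fg hfg]
  haveI : Module.Flat A C := by
    refine CAlg7.flat_of_forall_flat_mod_pow (S := C) (maximalIdeal A)
      (by rw [hmC]; exact maximalIdeal_le_jacobson ⊥) fun n _ => ?_
    have hmn : ((maximalIdeal A) ^ n).map (algebraMap A S) = m ^ n := by rw [Ideal.map_pow, hm]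
    have e1 : ((maximalIdeal A) ^ n • ⊤ : Submodule A C) = (m ^ n • ⊤ : Submodule S C).restrictScalars A := by
      rw [Ideal.smul_top_eq_map, Ideal.smul_top_eq_map, IsScalarTower.algebraMap_eq A S C,
        ← Ideal.map_map, hmn]
      rfl
    have e2 : ((maximalIdeal A) ^ n • ⊤ : Submodule A S) = (m ^ n • ⊤ : Submodule S S).restrictScalars A := by
      rw [Ideal.smul_top_eq_map, hmn, smul_eq_mul, Ideal.mul_top]
    let g : S →ₗ[A] C ⧸ ((maximalIdeal A) ^ n • ⊤ : Submodule A C) :=
      (Submodule.mkQ _).comp (IsScalarTower.toAlgHom A S C).toLinearMap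
    have hker : LinearMap.ker g = ((maximalIdeal A) ^ n • ⊤ : Submodule A S) := by
      ext s
      rw [LinearMap.mem_ker, e2]
      show Submodule.Quotient.mk (algebraMap S C s) = 0 ↔ _
      rw [Submodule.Quotient.mk_eq_zero, e1, Submodule.restrictScalars_mem,
        Submodule.restrictScalars_mem, AdicCompletion.pow_smul_top_eq_ker_eval hfg, LinearMap.mem_ker]
      show Submodule.Quotient.mk s = 0 ↔ _
      rw [Submodule.Quotient.mk_eq_zero]
    have hsurj : Function.Surjective g := fun c => by
      obtain ⟨c, rfl⟩ := Submodule.Quotient.mk_surjective _ c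
      obtain ⟨s, hs⟩ := Submodule.Quotient.mk_surjective _ (c.1 n)
      refine ⟨s, (Submodule.Quotient.eq _).2 ?_⟩
      show algebraMap S C s - c ∈ _
      rw [e1, Submodule.restrictScalars_mem, AdicCompletion.pow_smul_top_eq_ker_eval hfg,
        LinearMap.mem_ker]
      show Submodule.Quotient.mk s - c.1 n = 0
      rw [hs, sub_self]
    let e := (Submodule.quotEquivOfEq _ _ hker.symm).trans (g.quotKerEquivOfSurjective hsurj)
    let e' := e.extendScalarsOfSurjective (S := A ⧸ (maximalIdeal A) ^ n) Ideal.Quotient.mk_surjective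
    let b' := (TensorProduct.quotTensorEquivQuotSMul S ((maximalIdeal A) ^ n)).extendScalarsOfSurjective
      (S := A ⧸ (maximalIdeal A) ^ n) Ideal.Quotient.mk_surjective
    exact Module.Flat.of_linearEquiv (b'.trans e').symm
  haveI : Module.Flat S C := flat_of_algHom (IsScalarTower.toAlgHom A S C)
  haveI : Module.FaithfullyFlat S C := Module.FaithfullyFlat.of_flat_of_isLocalHom
  have hmono : StrictMono fun I : Ideal S => I.map (algebraMap S C) := fun I J hIJ =>
    lt_of_le_of_ne (Ideal.map_mono hIJ.le) fun (h : I.map (algebraMap S C) = J.map (algebraMap S C)) => hIJ.ne (by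
      rw [← Ideal.comap_map_eq_self_of_faithfullyFlat (B := C) I, h,
        Ideal.comap_map_eq_self_of_faithfullyFlat])
  haveI : WellFoundedGT (Ideal S) := hmono.wellFoundedGT
  exact isNoetherian_iff'.2 inferInstance

end Groth.Agent.Brnch26
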