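import Groth.Agent.Brnch26.Main
import Groth.Agent.Henz21.Unique
import Mathlib.FieldTheory.PurelyInseparable.Basic
import Mathlib.FieldTheory.IsSepClosed

/-!
Maximal ideals of the base change of a normalized component to the henselization, resp. the strict
henselization: maximal ideals, resp. geometric points, of the component.
-/

set_option autoImplicit false
set_option linter.style.haveILetI false

universe u

open IsLocalRing
open scoped TensorProduct

namespace Groth.Agent.Brnch26

open Groth.Agent

variable (A : Type u) [CommRing A] [IsLocalRing A] (p : minimalPrimes A)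

theorem algebraMap_algClosure :
    (algebraMap A (AlgebraicClosure (ResidueField A))) = Brnch.toClosure A := by
  rw [IsScalarTower.algebraMap_eq A (ResidueField A) (AlgebraicClosure (ResidueField A))]
  rfl

theorem exists_residue_hom {D : Type u} [CommRing D] [Algebra A D] [Algebra.IsIntegral A D]
    (m : MaximalSpectrum D) : ∃ ρ : ResidueField A →ₐ[A] D ⧸ m.asIdeal, True := by
  let ρ : ResidueField A →+* D ⧸ m.asIdeal := Ideal.Quotient.lift (maximalIdeal A)
    (algebraMap A (D ⧸ m.asIdeal)) fun a ha => by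
      rw [IsScalarTower.algebraMap_apply A D (D ⧸ m.asIdeal), Ideal.Quotient.algebraMap_eq,
        Ideal.Quotient.eq_zero_iff_mem]
      rw [← isMaximal_comap_of_maximal A m] at ha
      exact ha
  exact ⟨{ ρ with commutes' := fun a => rfl }, trivial⟩

variable {A}

theorem isMaximal_comap_inr {K : Type u} [Field K] [Algebra A K] [IsLocalHom (algebraMap A K)]
    (Q : Ideal (BC p K)) [Q.IsMaximal] : (Q.comap (inr p K)).IsMaximal := by
  haveI : (Q.comap (inl p K)).IsMaximal := Ideal.isMaximal_comap_of_isIntegral_of_isMaximal Q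
  refine Ideal.isMaximal_of_isIntegral_of_isMaximal_comap (R := A) _ ?_
  have h : (inr p K).comp (algebraMap A (Comp A p)) =
      (inl p K).comp (algebraMap A (Henz21.H A K)) :=
    RingHom.ext fun a => (inr_algebraMap p a).trans (Algebra.TensorProduct.algebraMap_apply a)
  have hc : (maximalIdeal (Henz21.H A K)).comap (algebraMap A (Henz21.H A K)) = maximalIdeal A := by
    ext a
    rw [Ideal.mem_comap, mem_maximalIdeal, mem_maximalIdeal, mem_nonunits_iff, mem_nonunits_iff,
      isUnit_map_iff (algebraMap A (Henz21.H A K))]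
  rw [Ideal.comap_comap, h, ← Ideal.comap_comap,
    eq_maximalIdeal ‹(Q.comap (inl p K)).IsMaximal›, hc]
  exact maximalIdeal.isMaximal A

theorem nonempty_max_equiv :
    Nonempty (MaximalSpectrum (BC p (ResidueField A)) ≃ MaximalSpectrum (Comp A p)) := by
  classical
  let K := ResidueField A
  let G : MaximalSpectrum (BC p K) → MaximalSpectrum (Comp A p) := fun Q =>
    haveI := Q.isMaximal
    ⟨Q.asIdeal.comap (inr p K), isMaximal_comap_inr p Q.asIdeal⟩
  have hdec : ∀ b : BC p K, ∃ d : Comp A p,
      b - inr p K d ∈ (maximalIdeal (Henz21.H A K)).map (inl p K) := fun b => by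
    induction b using TensorProduct.induction_on with
    | zero => exact ⟨0, by simp⟩
    | tmul h d =>
      obtain ⟨a, ha⟩ := IsLocalRing.residue_surjective (Henz21.H.proj A K h)
      refine ⟨a • d, ?_⟩
      have hh : h - algebraMap A _ a ∈ maximalIdeal (Henz21.H A K) := by
        rw [mem_maximalIdeal, mem_nonunits_iff, Henz21.H.isUnit_iff, map_sub, AlgHom.commutes,
          ← ha]
        exact fun hu => hu.ne_zero (sub_eq_zero.2 (IsLocalRing.ResidueField.algebraMap_eq A ▸ rfl))
      have : h ⊗ₜ[A] d - inr p K (a • d) = inr p K d * inl p K (h - algebraMap A _ a) := by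
        show h ⊗ₜ[A] d - (1 : Henz21.H A K) ⊗ₜ[A] (a • d) =
          (1 : Henz21.H A K) ⊗ₜ[A] d * (h - algebraMap A _ a) ⊗ₜ[A] (1 : Comp A p)
        rw [Algebra.TensorProduct.tmul_mul_tmul, one_mul, mul_one, TensorProduct.sub_tmul,
          Algebra.algebraMap_eq_smul_one, TensorProduct.tmul_smul, TensorProduct.smul_tmul']
      rw [this]
      exact Ideal.mul_mem_left _ _ (Ideal.mem_map_of_mem _ hh)
    | add x y hx hy =>
      obtain ⟨d, hd⟩ := hx
      obtain ⟨e, he⟩ := hy
      exact ⟨d + e, by rw [map_add, add_sub_add_comm]; exact add_mem hd he⟩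
  refine ⟨Equiv.ofBijective G ⟨fun Q₁ Q₂ h => ?_, fun m => ?_⟩⟩
  · have hmem : ∀ (Q : MaximalSpectrum (BC p K)) (b : BC p K) (d : Comp A p),
        b - inr p K d ∈ (maximalIdeal (Henz21.H A K)).map (inl p K) →
          (b ∈ Q.asIdeal ↔ d ∈ (G Q).asIdeal) := fun Q b d hbd => by
      haveI := Q.isMaximal
      have hJ : (maximalIdeal (Henz21.H A K)).map (inl p K) ≤ Q.asIdeal :=
        Ideal.map_le_iff_le_comap.2 (eq_maximalIdeal
          (Ideal.isMaximal_comap_of_isIntegral_of_isMaximal Q.asIdeal)).ge
      refine ⟨fun hb => ?_, fun hd => ?_⟩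
      · have := sub_mem hb (hJ hbd)
        rwa [sub_sub_cancel] at this
      · have hd' : inr p K d ∈ Q.asIdeal := hd
        have := add_mem (hJ hbd) hd'
        rwa [sub_add_cancel] at this
    refine MaximalSpectrum.ext (SetLike.ext fun b => ?_)
    obtain ⟨d, hd⟩ := hdec b
    rw [hmem Q₁ b d hd, hmem Q₂ b d hd, h]
  · obtain ⟨ρ, -⟩ := exists_residue_hom A m
    haveI := m.isMaximal
    letI := Ideal.Quotient.field m.asIdeal
    let f : BC p K →ₐ[A] Comp A p ⧸ m.asIdeal :=
      Algebra.TensorProduct.productMap (ρ.comp (Henz21.H.proj A K)) (Ideal.Quotient.mkₐ A _)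
    have hsurj : Function.Surjective f := fun z => by
      obtain ⟨d, rfl⟩ := Ideal.Quotient.mk_surjective z
      exact ⟨1 ⊗ₜ d, by rw [Algebra.TensorProduct.productMap_apply_tmul, map_one, one_mul]; rfl⟩
    refine ⟨⟨RingHom.ker f, RingHom.ker_isMaximal_of_surjective _ hsurj⟩,
      MaximalSpectrum.ext (SetLike.ext fun d => ?_)⟩
    show f (1 ⊗ₜ d) = 0 ↔ _
    rw [Algebra.TensorProduct.productMap_apply_tmul, map_one, one_mul]
    exact Ideal.Quotient.eq_zero_iff_mem

/-- The residue field of the strict henselization inside the algebraic closure. -/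
noncomputable def sepι : SeparableClosure (ResidueField A) →ₐ[A] AlgebraicClosure (ResidueField A) :=
  (separableClosure (ResidueField A) (AlgebraicClosure (ResidueField A))).val.restrictScalars A

/-- The geometric point of the base change attached to an embedding. -/
noncomputable def geomPoint (x : Σ m : MaximalSpectrum (Comp A p), VarNorm.EmbOf A (Comp A p) m) :
    BC p (SeparableClosure (ResidueField A)) →ₐ[A] AlgebraicClosure (ResidueField A) :=
  Algebra.TensorProduct.productMap (sepι.comp (Henz21.H.proj A _))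
    { x.2.1.comp (Ideal.Quotient.mk x.1.asIdeal) with
      commutes' := fun a => by rw [algebraMap_algClosure]; exact RingHom.congr_fun x.2.2 a }

theorem geomPoint_inr (x : Σ m : MaximalSpectrum (Comp A p), VarNorm.EmbOf A (Comp A p) m)
    (d : Comp A p) : geomPoint p x (inr p _ d) = x.2.1 (Ideal.Quotient.mk _ d) := by
  show Algebra.TensorProduct.productMap _ _ ((1 : Henz21.StrictHenselization A) ⊗ₜ[A] d) = _
  rw [Algebra.TensorProduct.productMap_apply_tmul, map_one, one_mul]
  rfl

theorem geomPoint_inl (x : Σ m : MaximalSpectrum (Comp A p), VarNorm.EmbOf A (Comp A p) m)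
    (h : Henz21.StrictHenselization A) :
    geomPoint p x (inl p _ h) = sepι (Henz21.H.proj A _ h) := by
  show Algebra.TensorProduct.productMap _ _ (h ⊗ₜ[A] (1 : Comp A p)) = _
  rw [Algebra.TensorProduct.productMap_apply_tmul, map_one, mul_one]
  rfl

theorem isMaximal_ker_geomPoint
    (x : Σ m : MaximalSpectrum (Comp A p), VarNorm.EmbOf A (Comp A p) m) :
    (RingHom.ker (geomPoint p x)).IsMaximal := by
  haveI : (RingHom.ker (geomPoint p x)).IsPrime := RingHom.ker_isPrime _
  refine Ideal.isMaximal_of_isIntegral_of_isMaximal_comap (R := Henz21.StrictHenselization A) _ ?_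
  have h : (RingHom.ker (geomPoint p x)).comap (inl p (SeparableClosure (ResidueField A))) =
      RingHom.ker (Henz21.H.proj A (SeparableClosure (ResidueField A))) := by
    ext h
    rw [Ideal.mem_comap, RingHom.mem_ker, geomPoint_inl, RingHom.mem_ker]
    exact map_eq_zero sepι
  exact h ▸ RingHom.ker_isMaximal_of_surjective _ Henz21.StrictHenselization.proj_surjective

theorem nonempty_max_equiv_emb :
    Nonempty (MaximalSpectrum (BC p (SeparableClosure (ResidueField A))) ≃
      Σ m : MaximalSpectrum (Comp A p), VarNorm.EmbOf A (Comp A p) m) := by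
  classical
  let K := SeparableClosure (ResidueField A)
  let κb := AlgebraicClosure (ResidueField A)
  let G : (Σ m : MaximalSpectrum (Comp A p), VarNorm.EmbOf A (Comp A p) m) →
      MaximalSpectrum (BC p K) := fun x => ⟨_, isMaximal_ker_geomPoint p x⟩
  have hπ : Function.Surjective (Henz21.H.proj A K).toRingHom :=
    Henz21.StrictHenselization.proj_surjective
  have hQ : ∀ Q : MaximalSpectrum (BC p K),
      RingHom.ker (Henz21.H.proj A K).toRingHom ≤
        RingHom.ker ((Ideal.Quotient.mk Q.asIdeal).comp (inl p K)) := fun Q h hh => by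
    haveI := Q.isMaximal
    rw [RingHom.mem_ker, RingHom.comp_apply, Ideal.Quotient.eq_zero_iff_mem]
    show h ∈ Q.asIdeal.comap (algebraMap (Henz21.H A K) (BC p K))
    rw [eq_maximalIdeal (Ideal.isMaximal_comap_of_isIntegral_of_isMaximal
        (R := Henz21.H A K) Q.asIdeal)]
    rw [mem_maximalIdeal, mem_nonunits_iff, Henz21.H.isUnit_iff]
    rw [RingHom.mem_ker] at hh
    show ¬ IsUnit ((Henz21.H.proj A K).toRingHom h)
    rw [hh]
    exact not_isUnit_zero
  have key : ∀ Q : MaximalSpectrum (BC p K),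
      ∃ j : K →+* BC p K ⧸ Q.asIdeal, ∀ h, j (Henz21.H.proj A K h) =
        Ideal.Quotient.mk Q.asIdeal (inl p K h) := fun Q =>
    ⟨(Henz21.H.proj A K).toRingHom.liftOfSurjective hπ ⟨_, hQ Q⟩, fun h =>
      RingHom.liftOfRightInverse_comp_apply _ _ (Function.rightInverse_surjInv hπ) ⟨_, hQ Q⟩ h⟩
  have halg : ∀ (Q : MaximalSpectrum (BC p K)) (j : K →+* BC p K ⧸ Q.asIdeal),
      (∀ h, j (Henz21.H.proj A K h) = Ideal.Quotient.mk Q.asIdeal (inl p K h)) →
      j.IsIntegral := fun Q j hj => by
    intro z
    obtain ⟨b, rfl⟩ := Ideal.Quotient.mk_surjective z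
    obtain ⟨P, hP, hP0⟩ := Algebra.IsIntegral.isIntegral (R := Henz21.H A K) b
    refine ⟨P.map (Henz21.H.proj A K).toRingHom, hP.map _, ?_⟩
    rw [Polynomial.eval₂_map,
      show j.comp (Henz21.H.proj A K).toRingHom =
        (Ideal.Quotient.mk Q.asIdeal).comp (algebraMap (Henz21.H A K) (BC p K)) from
          RingHom.ext hj,
      ← Polynomial.hom_eval₂, hP0, map_zero]
  refine ⟨(Equiv.ofBijective G ⟨fun x y h => ?_, fun Q => ?_⟩).symm⟩
  · have hker : RingHom.ker (geomPoint p x) = RingHom.ker (geomPoint p y) :=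
      congrArg MaximalSpectrum.asIdeal h
    let Q := G x
    obtain ⟨j, hj⟩ := key Q
    letI : Algebra K (BC p K ⧸ Q.asIdeal) := RingHom.toAlgebra (R := K) (S := BC p K ⧸ Q.asIdeal) j
    haveI := Q.isMaximal
    letI := Ideal.Quotient.field Q.asIdeal
    haveI : Algebra.IsIntegral K (BC p K ⧸ Q.asIdeal) := ⟨halg Q j hj⟩
    haveI : IsPurelyInseparable K (BC p K ⧸ Q.asIdeal) :=
      Algebra.IsAlgebraic.isPurelyInseparable_of_isSepClosed
    let fx : BC p K ⧸ Q.asIdeal →+* κb :=
      Ideal.Quotient.lift Q.asIdeal (geomPoint p x).toRingHom fun b hb => hb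
    let fy : BC p K ⧸ Q.asIdeal →+* κb :=
      Ideal.Quotient.lift Q.asIdeal (geomPoint p y).toRingHom fun b hb => hker.le hb
    have hfxy : fx = fy := by
      refine IsPurelyInseparable.injective_comp_algebraMap K (BC p K ⧸ Q.asIdeal) κb ?_
      refine RingHom.ext fun k => ?_
      obtain ⟨h, rfl⟩ := hπ k
      show fx (j _) = fy (j _)
      rw [show j ((Henz21.H.proj A K).toRingHom h) = _ from hj h]
      show geomPoint p x (inl p K h) = geomPoint p y (inl p K h)
      rw [geomPoint_inl, geomPoint_inl]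
    have hd : ∀ d, x.2.1 (Ideal.Quotient.mk _ d) = y.2.1 (Ideal.Quotient.mk _ d) := fun d => by
      rw [← geomPoint_inr, ← geomPoint_inr]
      exact RingHom.congr_fun hfxy (Ideal.Quotient.mk _ (inr p K d))
    obtain ⟨mx, σx⟩ := x
    obtain ⟨my, σy⟩ := y
    have hm : mx = my := by
      refine MaximalSpectrum.ext (SetLike.ext fun d => ?_)
      haveI := mx.isMaximal
      haveI := my.isMaximal
      letI := Ideal.Quotient.field mx.asIdeal
      letI := Ideal.Quotient.field my.asIdeal
      rw [← Ideal.Quotient.eq_zero_iff_mem (I := mx.asIdeal),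
        ← Ideal.Quotient.eq_zero_iff_mem (I := my.asIdeal), ← map_eq_zero_iff _ σx.1.injective,
        ← map_eq_zero_iff _ σy.1.injective]
      exact Eq.congr_left (hd d)
    subst hm
    exact congrArg (Sigma.mk mx) (Subtype.ext (Ideal.Quotient.ringHom_ext (RingHom.ext hd)))
  · obtain ⟨j, hj⟩ := key Q
    letI : Algebra K (BC p K ⧸ Q.asIdeal) := RingHom.toAlgebra (R := K) (S := BC p K ⧸ Q.asIdeal) j
    haveI := Q.isMaximal
    letI := Ideal.Quotient.field Q.asIdeal
    haveI : Algebra.IsIntegral K (BC p K ⧸ Q.asIdeal) := ⟨halg Q j hj⟩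
    letI : Algebra K κb := (sepι : K →ₐ[A] κb).toRingHom.toAlgebra
    let σ₀ : BC p K ⧸ Q.asIdeal →ₐ[K] κb := IsAlgClosed.lift
    let f : BC p K →+* κb := σ₀.toRingHom.comp (Ideal.Quotient.mk Q.asIdeal)
    have hfl : ∀ h, f (inl p K h) = sepι (Henz21.H.proj A K h) := fun h => by
      show σ₀ (Ideal.Quotient.mk Q.asIdeal (inl p K h)) = _
      rw [← hj h]
      exact σ₀.commutes _
    let m : MaximalSpectrum (Comp A p) := ⟨_, isMaximal_comap_inr p Q.asIdeal⟩
    let σ : Comp A p ⧸ m.asIdeal →+* κb :=
      Ideal.Quotient.lift m.asIdeal (f.comp (inr p K)) fun d hd => by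
        show σ₀ (Ideal.Quotient.mk Q.asIdeal (inr p K d)) = 0
        rw [Ideal.Quotient.eq_zero_iff_mem.2 (show inr p K d ∈ Q.asIdeal from hd), map_zero]
    have hσ : σ.comp ((Ideal.Quotient.mk m.asIdeal).comp (algebraMap A (Comp A p))) =
        Brnch.toClosure A := by
      rw [← algebraMap_algClosure]
      refine RingHom.ext fun a => ?_
      show f (inr p K (algebraMap A (Comp A p) a)) = _
      rw [inr_algebraMap, Algebra.TensorProduct.algebraMap_apply]
      exact (hfl _).trans (by rw [AlgHom.commutes, AlgHom.commutes])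
    refine ⟨⟨m, σ, hσ⟩, MaximalSpectrum.ext ?_⟩
    have : (geomPoint p ⟨m, σ, hσ⟩).toRingHom = f := by
      refine RingHom.ext fun b => ?_
      show geomPoint p ⟨m, σ, hσ⟩ b = f b
      induction b using TensorProduct.induction_on with
      | zero => simp
      | tmul h d =>
        rw [show h ⊗ₜ[A] d = inl p K h * inr p K d by
          show _ = h ⊗ₜ[A] (1 : Comp A p) * (1 : Henz21.H A K) ⊗ₜ[A] d
          rw [Algebra.TensorProduct.tmul_mul_tmul, mul_one, one_mul],
          map_mul, map_mul, geomPoint_inl, geomPoint_inr, hfl]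
        rfl
      | add a b ha hb => rw [map_add, map_add, ha, hb]
    show RingHom.ker (geomPoint p ⟨m, σ, hσ⟩).toRingHom = Q.asIdeal
    rw [this]
    ext b
    rw [RingHom.mem_ker]
    show σ₀ (Ideal.Quotient.mk Q.asIdeal b) = 0 ↔ _
    exact (map_eq_zero σ₀).trans Ideal.Quotient.eq_zero_iff_mem

theorem card_minimalPrimes_henselization :
    ENat.card (minimalPrimes (Henz21.Henselization A)) = Brnch.numBranches A := by
  rw [card_minimalPrimes_eq, numBranches_eq_sigma]
  exact ENat.card_congr (Equiv.sigmaCongrRight fun p => (nonempty_max_equiv p).some)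

theorem card_minimalPrimes_strictHenselization :
    ENat.card (minimalPrimes (Henz21.StrictHenselization A)) = Brnch.numGeomBranches A := by
  rw [card_minimalPrimes_eq, numGeomBranches_eq_sigma]
  exact ENat.card_congr (Equiv.sigmaCongrRight fun p => (nonempty_max_equiv_emb p).some)

/-- Minimal primes along a ring isomorphism. -/
noncomputable def minimalPrimesEquiv {R S : Type*} [CommRing R] [CommRing S] (e : R ≃+* S) :
    minimalPrimes S ≃ minimalPrimes R where
  toFun P := ⟨P.1.comap e.toRingHom, by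
    obtain ⟨⟨hP, -⟩, hmin⟩ := P.2
    refine ⟨⟨Ideal.comap_isPrime _ _, bot_le⟩, fun q hq hle => ?_⟩
    haveI := hq.1
    have h := hmin (y := q.comap e.symm.toRingHom) ⟨Ideal.comap_isPrime _ _, bot_le⟩
      fun y hy => (e.apply_symm_apply y) ▸ (show e (e.symm y) ∈ P.1 from hle hy)
    exact fun x hx => (e.symm_apply_apply x) ▸ (show e.symm (e x) ∈ q from h hx)⟩
  invFun P := ⟨P.1.comap e.symm.toRingHom, by
    obtain ⟨⟨hP, -⟩, hmin⟩ := P.2
    refine ⟨⟨Ideal.comap_isPrime _ _, bot_le⟩, fun q hq hle => ?_⟩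
    haveI := hq.1
    have h := hmin (y := q.comap e.toRingHom) ⟨Ideal.comap_isPrime _ _, bot_le⟩
      fun y hy => (e.symm_apply_apply y) ▸ (show e.symm (e y) ∈ P.1 from hle hy)
    exact fun x hx => (e.apply_symm_apply x) ▸ (show e (e.symm x) ∈ q from h hx)⟩
  left_inv P := Subtype.ext (SetLike.ext fun x => by
    show e (e.symm x) ∈ P.1 ↔ x ∈ P.1
    rw [e.apply_symm_apply])
  right_inv P := Subtype.ext (SetLike.ext fun x => by
    show e.symm (e x) ∈ P.1 ↔ x ∈ P.1
    rw [e.symm_apply_apply])

theorem card_minimalPrimes_of_isHenselization (S : Type u) [CommRing S] [IsLocalRing S]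
    [Algebra A S] [IsLocalHom (algebraMap A S)] [Hensel.IsHenselization A S] :
    ENat.card (minimalPrimes S) = Brnch.numBranches A := by
  rw [← card_minimalPrimes_henselization]
  exact ENat.card_congr (minimalPrimesEquiv (Henz21.henselizationEquiv (R := A) (S := S)).toRingEquiv)

theorem card_minimalPrimes_of_isStrictHenselization (S : Type u) [CommRing S] [IsLocalRing S]
    [Algebra A S] [IsLocalHom (algebraMap A S)] [Hensel.IsStrictHenselization A S] :
    ENat.card (minimalPrimes S) = Brnch.numGeomBranches A := by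
  rw [← card_minimalPrimes_strictHenselization]
  exact ENat.card_congr (minimalPrimesEquiv (Henz21.strictHenselizationEquiv (R := A) (S := S)).toRingEquiv)

end Groth.Agent.Brnch26
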