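import Groth.Agent.Brnch26.Descent
import Groth.Agent.Brnch26.FlatLift
import Groth.Agent.Brnch26.Emb
import Groth.Agent.Henz21.StrictMap
import Groth.Agent.CAlg1.Regular
import Mathlib.RingTheory.KrullDimension.Basic
import Mathlib.RingTheory.AdicCompletion.AsTensorProduct
import Mathlib.RingTheory.Henselian
import Mathlib.RingTheory.Spectrum.Prime.Topology

/-!
Branches of a Noetherian local ring and of its completion.
-/

set_option autoImplicit false
set_option linter.style.haveILetI false

universe u

open IsLocalRing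
open scoped TensorProduct

namespace Groth.Agent.Brnch26

open Groth.Agent

section General

variable {S C : Type u} [CommRing S] [CommRing C] [Algebra S C]

theorem comap_minimalPrimes_mem [Module.Flat S C] {P : Ideal C} (hP : P ∈ minimalPrimes C) :
    P.comap (algebraMap S C) ∈ minimalPrimes S := by
  obtain ⟨⟨hP, -⟩, hmin⟩ := hP
  refine ⟨⟨Ideal.comap_isPrime _ _, bot_le⟩, fun q hq hqle => ?_⟩
  have := hq.1
  have : P.LiesOver (P.comap (algebraMap S C)) := ⟨rfl⟩
  obtain ⟨Q, hQP, hQ, hQq⟩ := Ideal.exists_ideal_le_liesOver_of_le (Q := P) hqle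
  have : Q = P := le_antisymm hQP (hmin ⟨hQ, bot_le⟩ hQP)
  rw [← this]
  exact hQq.over.ge

theorem exists_minimalPrimes_comap_eq [Module.FaithfullyFlat S C] {q : Ideal S}
    (hq : q ∈ minimalPrimes S) :
    ∃ P ∈ minimalPrimes C, P.comap (algebraMap S C) = q := by
  obtain ⟨⟨hqp, -⟩, hmin⟩ := hq
  haveI := hqp
  obtain ⟨P₀, hP₀⟩ := PrimeSpectrum.comap_surjective_of_faithfullyFlat (B := C) ⟨q, hqp⟩
  obtain ⟨P, hP, hle⟩ := Ideal.exists_minimalPrimes_le (I := (⊥ : Ideal C)) (J := P₀.asIdeal) bot_le
  haveI := hP.1.1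
  have hq' : P₀.asIdeal.comap (algebraMap S C) = q := congrArg PrimeSpectrum.asIdeal hP₀
  have hle' : P.comap (algebraMap S C) ≤ q := hq' ▸ Ideal.comap_mono hle
  exact ⟨P, hP, le_antisymm hle' (hmin ⟨Ideal.comap_isPrime _ _, bot_le⟩ hle')⟩

theorem card_minimalPrimes_le [Module.FaithfullyFlat S C] :
    ENat.card (minimalPrimes S) ≤ ENat.card (minimalPrimes C) := by
  choose P hP hPq using fun q : minimalPrimes S => exists_minimalPrimes_comap_eq (C := C) q.2
  refine ENat.card_le_card_of_injective (f := fun q => (⟨P q, hP q⟩ : minimalPrimes C))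
    fun a b h => Subtype.ext ?_
  rw [← hPq a, ← hPq b]
  exact congrArg (fun x : minimalPrimes C => x.1.comap (algebraMap S C)) h

theorem card_minimalPrimes_eq_of_inj [Module.FaithfullyFlat S C]
    (h : ∀ P ∈ minimalPrimes C, ∀ Q ∈ minimalPrimes C,
      P.comap (algebraMap S C) = Q.comap (algebraMap S C) → P = Q) :
    ENat.card (minimalPrimes C) = ENat.card (minimalPrimes S) :=
  le_antisymm (ENat.card_le_card_of_injective
    (f := fun P : minimalPrimes C => (⟨_, comap_minimalPrimes_mem P.2⟩ : minimalPrimes S))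
    fun a b hab => Subtype.ext (h _ a.2 _ b.2 (congrArg Subtype.val hab))) card_minimalPrimes_le

theorem mem_minimalPrimes_of_mem_map [Module.Flat S C] {q : Ideal S} (hq : q ∈ minimalPrimes S)
    {P : Ideal C} (hP : P ∈ (q.map (algebraMap S C)).minimalPrimes) :
    P ∈ minimalPrimes C ∧ P.comap (algebraMap S C) = q := by
  obtain ⟨⟨hPp, hqP⟩, hmin⟩ := hP
  haveI := hPp
  haveI := hq.1.1
  have hle : q ≤ P.comap (algebraMap S C) := Ideal.map_le_iff_le_comap.1 hqP
  have : P.LiesOver (P.comap (algebraMap S C)) := ⟨rfl⟩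
  obtain ⟨Q, hQP, hQ, hQq⟩ := Ideal.exists_ideal_le_liesOver_of_le (Q := P) hle
  have heq : Q = P := le_antisymm hQP (hmin ⟨hQ, Ideal.map_le_iff_le_comap.2 hQq.over.le⟩ hQP)
  have hcomap : P.comap (algebraMap S C) = q := by rw [← heq]; exact hQq.over.symm
  refine ⟨⟨⟨hPp, bot_le⟩, fun R hR hRP => hmin ⟨hR.1, ?_⟩ hRP⟩, hcomap⟩
  haveI := hR.1
  rw [Ideal.map_le_iff_le_comap]
  exact hq.2 ⟨Ideal.comap_isPrime _ _, bot_le⟩ (hcomap ▸ Ideal.comap_mono hRP)

variable [IsLocalRing S] [IsLocalRing C]

theorem comap_ne_maximalIdeal (hm : (maximalIdeal S).map (algebraMap S C) = maximalIdeal C)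
    {P : Ideal C} [P.IsPrime] (hP : P ≠ maximalIdeal C) :
    P.comap (algebraMap S C) ≠ maximalIdeal S := fun h =>
  hP ((le_maximalIdeal ‹P.IsPrime›.ne_top).antisymm
    (hm ▸ Ideal.map_le_iff_le_comap.2 h.ge))

end General

section Henselian

variable {S C : Type u} [CommRing S] [HenselianLocalRing S] [IsNoetherianRing S] [CommRing C]
  [IsLocalRing C] [IsNoetherianRing C] [Algebra S C] [Module.Flat S C]
  [IsLocalHom (algebraMap S C)]
  (hm : (maximalIdeal S).map (algebraMap S C) = maximalIdeal C)
  (hres : ∀ c : C, ∃ s, c - algebraMap S C s ∈ maximalIdeal C)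

include hm hres in
/-- A one-dimensional branch is the radical of the extension of a branch downstairs. -/
theorem radical_map_comap_eq {q : Ideal C} (hq : q ∈ minimalPrimes C) (hqm : q ≠ maximalIdeal C)
    (hdim : ∀ P : Ideal C, P.IsPrime → q ≤ P → P ≠ maximalIdeal C → P = q) :
    ((q.comap (algebraMap S C)).map (algebraMap S C)).radical = q := by
  haveI := hq.1.1
  let J' : Ideal C := sInf (minimalPrimes C \ {q})
  have hfin : (minimalPrimes C \ {q}).Finite :=
    (minimalPrimes.finite_of_isNoetherianRing C).sdiff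
  obtain ⟨L, L', hL⟩ := exists_descent_primes hm hres q J'
    (fun P hP hPm => by
      obtain ⟨R, hR, hRP⟩ := Ideal.exists_minimalPrimes_le (I := (⊥ : Ideal C)) (J := P) bot_le
      by_cases hRq : R = q
      · exact Or.inl (hRq ▸ hRP)
      · exact Or.inr (le_trans (sInf_le ⟨hR, hRq⟩) hRP))
    (fun P hP hPm hqP hJP => by
      obtain rfl := hdim P hP hqP hPm
      obtain ⟨R, hR, hRP⟩ := (hP.inf_le' (s := hfin.toFinset) (f := id)).1
        (le_of_eq_of_le (by rw [Finset.inf_id_eq_sInf, Set.Finite.coe_toFinset]) hJP)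
      rw [Set.Finite.mem_toFinset] at hR
      exact hR.2 (le_antisymm hRP (hq.2 ⟨hR.1.1.1, bot_le⟩ hRP)))
  refine le_antisymm (Ideal.IsRadical.radical_le_iff (Ideal.IsPrime.isRadical inferInstance) |>.2
    Ideal.map_comap_le) ?_
  rw [Ideal.radical_eq_sInf]
  refine le_sInf fun P ⟨hle, hP⟩ => ?_
  by_cases hPm : P = maximalIdeal C
  · rw [hPm]; exact le_maximalIdeal hq.1.1.ne_top
  · have h1 : L ≤ q.comap (algebraMap S C) := (hL q inferInstance hqm).1.1 le_rfl
    exact (hL P hP hPm).1.2 (h1.trans (Ideal.map_le_iff_le_comap.1 hle))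

include hm hres in
theorem card_minimalPrimes_eq_of_dimLE_one [Module.FaithfullyFlat S C] [Ring.KrullDimLE 1 C]
    (h0 : maximalIdeal C ∉ minimalPrimes C) :
    ENat.card (minimalPrimes C) = ENat.card (minimalPrimes S) := by
  have key : ∀ P ∈ minimalPrimes C, ((P.comap (algebraMap S C)).map (algebraMap S C)).radical = P :=
    fun P hP => radical_map_comap_eq hm hres hP (fun h => h0 (h ▸ hP)) fun R hR hPR hRm => by
      rcases (Ring.krullDimLE_one_iff.1 ‹_›) R hR with h | h
      · exact le_antisymm (h.2 hP.1 hPR) hPR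
      · exact absurd (eq_maximalIdeal h) hRm
  exact card_minimalPrimes_eq_of_inj fun P hP Q hQ h => by rw [← key P hP, ← key Q hQ, h]

include hm hres in
theorem isPreconnected_punctured_iff [Module.FaithfullyFlat S C] :
    IsPreconnected ({closedPoint C}ᶜ : Set (PrimeSpectrum C)) ↔
      IsPreconnected ({closedPoint S}ᶜ : Set (PrimeSpectrum S)) := by
  constructor
  · intro h
    have := h.image (PrimeSpectrum.comap (algebraMap S C)) (PrimeSpectrum.continuous_comap _).continuousOn
    convert this
    ext P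
    constructor
    · intro hP
      obtain ⟨Q, rfl⟩ := PrimeSpectrum.comap_surjective_of_faithfullyFlat (B := C) P
      refine ⟨Q, fun hQ => hP ?_, rfl⟩
      rw [Set.mem_singleton_iff.1 hQ]
      exact IsLocalRing.comap_closedPoint (algebraMap S C)
    · rintro ⟨Q, hQ, rfl⟩ h'
      exact comap_ne_maximalIdeal hm (P := Q.asIdeal) (fun h'' => hQ (PrimeSpectrum.ext h''))
        (congrArg PrimeSpectrum.asIdeal (Set.mem_singleton_iff.1 h'))
  · intro h
    rw [isPreconnected_closed_iff] at h ⊢
    intro t t' ht ht' hcov hne hne'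
    by_contra hemp
    rw [Set.not_nonempty_iff_eq_empty] at hemp
    obtain ⟨J, rfl⟩ := (PrimeSpectrum.isClosed_iff_zeroLocus_ideal t).1 ht
    obtain ⟨J', rfl⟩ := (PrimeSpectrum.isClosed_iff_zeroLocus_ideal t').1 ht'
    obtain ⟨L, L', hL⟩ := exists_descent_primes hm hres J J'
      (fun P hP hPm => by
        rcases hcov (show (⟨P, hP⟩ : PrimeSpectrum C) ∈ ({closedPoint C}ᶜ : Set _) from
          fun h' => hPm (congrArg PrimeSpectrum.asIdeal (Set.mem_singleton_iff.1 h'))) with h' | h'
        · exact Or.inl h'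
        · exact Or.inr h')
      (fun P hP hPm h1 h2 => by
        have : (⟨P, hP⟩ : PrimeSpectrum C) ∈ ({closedPoint C}ᶜ : Set (PrimeSpectrum C)) ∩
            (PrimeSpectrum.zeroLocus J ∩ PrimeSpectrum.zeroLocus J') :=
          ⟨fun h' => hPm (congrArg PrimeSpectrum.asIdeal (Set.mem_singleton_iff.1 h')), h1, h2⟩
        rw [hemp] at this
        exact this)
    have hup : ∀ Q : PrimeSpectrum S, Q ∈ ({closedPoint S}ᶜ : Set (PrimeSpectrum S)) →
        ∃ P : PrimeSpectrum C, P ∈ ({closedPoint C}ᶜ : Set (PrimeSpectrum C)) ∧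
          P.asIdeal.comap (algebraMap S C) = Q.asIdeal := fun Q hQ => by
      obtain ⟨P, rfl⟩ := PrimeSpectrum.comap_surjective_of_faithfullyFlat (B := C) Q
      refine ⟨P, fun hP => hQ ?_, rfl⟩
      rw [Set.mem_singleton_iff.1 hP]
      exact IsLocalRing.comap_closedPoint (algebraMap S C)
    have hne0 : ∀ P : PrimeSpectrum C, P ∈ ({closedPoint C}ᶜ : Set (PrimeSpectrum C)) →
        P.asIdeal ≠ maximalIdeal C := fun P hP h' => hP (PrimeSpectrum.ext h')
    have hdown : ∀ P : PrimeSpectrum C, P ∈ ({closedPoint C}ᶜ : Set (PrimeSpectrum C)) →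
        PrimeSpectrum.comap (algebraMap S C) P ∈ ({closedPoint S}ᶜ : Set (PrimeSpectrum S)) :=
      fun P hP h' => comap_ne_maximalIdeal hm (hne0 P hP)
        (congrArg PrimeSpectrum.asIdeal (Set.mem_singleton_iff.1 h'))
    have := h (PrimeSpectrum.zeroLocus (L : Set S)) (PrimeSpectrum.zeroLocus (L' : Set S))
      (PrimeSpectrum.isClosed_zeroLocus _) (PrimeSpectrum.isClosed_zeroLocus _)
      (fun Q hQ => by
        obtain ⟨P, hP, hPQ⟩ := hup Q hQ
        rcases hcov hP with h' | h'
        · exact Or.inl (show L ≤ Q.asIdeal from hPQ ▸ (hL _ P.isPrime (hne0 P hP)).1.1 h')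
        · exact Or.inr (show L' ≤ Q.asIdeal from hPQ ▸ (hL _ P.isPrime (hne0 P hP)).2.1 h'))
      (by
        obtain ⟨P, hP, hPt⟩ := hne
        exact ⟨_, hdown P hP, (hL _ P.isPrime (hne0 P hP)).1.1 hPt⟩)
      (by
        obtain ⟨P, hP, hPt⟩ := hne'
        exact ⟨_, hdown P hP, (hL _ P.isPrime (hne0 P hP)).2.1 hPt⟩)
    obtain ⟨Q, hQ, hQL, hQL'⟩ := this
    obtain ⟨P, hP, hPQ⟩ := hup Q hQ
    have h1 : J ≤ P.asIdeal := (hL _ P.isPrime (hne0 P hP)).1.2 (hPQ ▸ hQL)
    have h2 : J' ≤ P.asIdeal := (hL _ P.isPrime (hne0 P hP)).2.2 (hPQ ▸ hQL')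
    have : P ∈ ({closedPoint C}ᶜ : Set (PrimeSpectrum C)) ∩
        (PrimeSpectrum.zeroLocus J ∩ PrimeSpectrum.zeroLocus J') := ⟨hP, h1, h2⟩
    rw [hemp] at this
    exact this

end Henselian

section Completion

variable (A : Type u) [CommRing A] [IsLocalRing A] [IsNoetherianRing A]

/-- The completion. -/
abbrev Cpl : Type u := AdicCompletion (maximalIdeal A) A

instance isNoetherianRing_cpl : IsNoetherianRing (Cpl A) :=
  haveI : IsNoetherianRing (A ⧸ maximalIdeal A) := inferInstance
  CAlg1.isNoetherianRing_adicCompletion _ (maximalIdeal A).fg_of_isNoetherianRing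

instance henselianLocalRing_cpl : HenselianLocalRing (Cpl A) :=
  haveI : HenselianRing (Cpl A) (maximalIdeal (Cpl A)) := IsAdicComplete.henselianRing _ _
  { is_henselian := fun f hf a₀ h₁ h₂ => HenselianRing.is_henselian f hf a₀ h₁
      (h₂.map (Ideal.Quotient.mk _)) }

instance isHenselization_self (B : Type u) [CommRing B] [hB : HenselianLocalRing B] :
    Hensel.IsHenselization B B where
  henselian := hB
  universal _ _ _ f _ := ⟨f, by simp, fun g hg => by simpa using hg⟩

theorem numBranches_cpl :
    Brnch.numBranches (Cpl A) = ENat.card (minimalPrimes (Cpl A)) :=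
  (card_minimalPrimes_of_isHenselization (Cpl A)).symm

variable {A}

theorem exists_sub_mem_cpl (c : Cpl A) :
    ∃ a : A, c - algebraMap A (Cpl A) a ∈ maximalIdeal (Cpl A) := by
  obtain ⟨r, hr⟩ := (AdicCompletion.residueField_map_bijective A).2 (residue _ c)
  obtain ⟨a, rfl⟩ := residue_surjective r
  rw [ResidueField.map_residue] at hr
  exact ⟨a, (residue_eq_zero_iff _).1 (by rw [map_sub, hr, sub_self])⟩

variable (S : Type u) [CommRing S] [IsLocalRing S] [Algebra A S] [IsLocalHom (algebraMap A S)]
  [hS : Hensel.IsHenselization A S] (ψ : S →+* Cpl A)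
  (hψ : ψ.comp (algebraMap A S) = algebraMap A (Cpl A))

include hψ in
/-- The properties of the comparison map of the henselization to the completion. -/
theorem approx_henselization :
    letI := ψ.toAlgebra
    (IsNoetherianRing S) ∧ Module.FaithfullyFlat S (Cpl A) ∧
      IsLocalHom (algebraMap S (Cpl A)) ∧
      (maximalIdeal S).map (algebraMap S (Cpl A)) = maximalIdeal (Cpl A) ∧
      ∀ c : Cpl A, ∃ s, c - algebraMap S (Cpl A) s ∈ maximalIdeal (Cpl A) := by
  letI := ψ.toAlgebra
  let e := Henz21.henselizationEquiv (R := A) (S := S)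
  have hN : IsNoetherianRing S := isNoetherianRing_of_ringEquiv _ e.toRingEquiv
  have hmap : (maximalIdeal S).map (algebraMap S (Cpl A)) = maximalIdeal (Cpl A) := by
    rw [← Henz21.henselization_map_maximalIdeal (R := A) (S := S), Ideal.map_map,
      AdicCompletion.maximalIdeal_eq_map]
    exact congrArg (fun f => Ideal.map f (maximalIdeal A)) hψ
  have hloc : IsLocalHom (algebraMap S (Cpl A)) :=
    ((local_hom_TFAE _).out 0 2).2 hmap.le
  have hflat : Module.Flat S (Cpl A) := by
    let ψ' : S →ₐ[A] Cpl A := { ψ with commutes' := RingHom.congr_fun hψ }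
    have h := flat_of_algHom (ψ'.comp e.toAlgHom)
    show ψ.Flat
    have : ψ = (ψ'.comp e.toAlgHom).toRingHom.comp e.symm.toRingEquiv.toRingHom :=
      RingHom.ext fun x => congrArg ψ (e.apply_symm_apply x).symm
    rw [this]
    exact (RingHom.Flat.of_bijective e.symm.bijective).comp h
  refine ⟨hN, Module.FaithfullyFlat.of_flat_of_isLocalHom, hloc, hmap, fun c => ?_⟩
  obtain ⟨a, ha⟩ := exists_sub_mem_cpl c
  exact ⟨algebraMap A S a, by
    rw [show algebraMap S (Cpl A) (algebraMap A S a) = algebraMap A (Cpl A) a from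
      RingHom.congr_fun hψ a]
    exact ha⟩

omit S in
/-- Comparison of the strict henselizations. -/
theorem exists_approx_strict :
    ∃ _ : Algebra (Henz21.StrictHenselization A) (Henz21.StrictHenselization (Cpl A)),
      Module.FaithfullyFlat (Henz21.StrictHenselization A) (Henz21.StrictHenselization (Cpl A)) ∧
      IsLocalHom (algebraMap (Henz21.StrictHenselization A) (Henz21.StrictHenselization (Cpl A))) ∧
      (maximalIdeal (Henz21.StrictHenselization A)).map
          (algebraMap (Henz21.StrictHenselization A) (Henz21.StrictHenselization (Cpl A))) =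
        maximalIdeal (Henz21.StrictHenselization (Cpl A)) ∧
      ∀ c : Henz21.StrictHenselization (Cpl A), ∃ s,
        c - algebraMap (Henz21.StrictHenselization A) (Henz21.StrictHenselization (Cpl A)) s ∈
          maximalIdeal (Henz21.StrictHenselization (Cpl A)) := by
  let S' := Henz21.StrictHenselization A
  let C := Cpl A
  let T := Henz21.StrictHenselization C
  haveI hT : IsSepClosure (ResidueField C) (ResidueField T) :=
    Hensel.IsStrictHenselization.isSepClosure
  haveI hS' : IsSepClosure (ResidueField A) (ResidueField S') :=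
    Hensel.IsStrictHenselization.isSepClosure
  haveI : IsSepClosed (ResidueField T) := hT.sep_closed
  let f : A →+* T := (algebraMap C T).comp (algebraMap A C)
  haveI : IsLocalHom f := RingHom.isLocalHom_comp _ _
  obtain ⟨g, hg, hgl⟩ := Henz21.exists_map_of_strictHenselization (Ash := S') f
  letI := g.toAlgebra
  letI algAT : Algebra A T := f.toAlgebra
  haveI : IsScalarTower A C T := IsScalarTower.of_algebraMap_eq fun a => rfl
  haveI : Module.Flat A T := Module.Flat.trans A C T
  let g' : S' →ₐ[A] T := { g with commutes' := RingHom.congr_fun hg }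
  haveI hflat : Module.Flat S' T := flat_of_algHom g'
  haveI hloc : IsLocalHom (algebraMap S' T) := hgl
  have hmap : (maximalIdeal S').map (algebraMap S' T) = maximalIdeal T := by
    rw [← Henz21.strictHenselization_map_maximalIdeal (R := A) (S := S'), Ideal.map_map,
      ← Henz21.strictHenselization_map_maximalIdeal (R := C) (S := T),
      AdicCompletion.maximalIdeal_eq_map, Ideal.map_map]
    exact congrArg (fun f => Ideal.map f (maximalIdeal A)) hg
  refine ⟨g.toAlgebra, Module.FaithfullyFlat.of_flat_of_isLocalHom, hloc, hmap, fun c => ?_⟩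
  -- the residue fields agree
  letI : Algebra (ResidueField S') (ResidueField T) := (ResidueField.map (algebraMap S' T)).toAlgebra
  haveI : IsSepClosed (ResidueField S') := hS'.sep_closed
  haveI : Algebra.IsSeparable (ResidueField C) (ResidueField T) := hT.separable
  haveI : Algebra.IsSeparable (ResidueField S') (ResidueField T) := by
    refine ⟨fun x => ?_⟩
    have hx := Algebra.IsSeparable.isSeparable (ResidueField C) x
    let τ : ResidueField C →+* ResidueField S' :=
      (ResidueField.map (algebraMap A S')).comp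
        (RingEquiv.ofBijective _ (AdicCompletion.residueField_map_bijective A)).symm.toRingHom
    have hτ : (algebraMap (ResidueField S') (ResidueField T)).comp τ =
        algebraMap (ResidueField C) (ResidueField T) := by
      refine RingHom.ext fun y => ?_
      obtain ⟨y, rfl⟩ := (RingEquiv.ofBijective _
        (AdicCompletion.residueField_map_bijective A)).surjective y
      obtain ⟨a, rfl⟩ := residue_surjective y
      show ResidueField.map g (ResidueField.map (algebraMap A S')
        ((RingEquiv.ofBijective _ (AdicCompletion.residueField_map_bijective A)).symm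
          ((RingEquiv.ofBijective _ (AdicCompletion.residueField_map_bijective A)) (residue A a)))) = _
      rw [RingEquiv.symm_apply_apply, ResidueField.map_residue, ResidueField.map_residue,
        RingEquiv.ofBijective_apply, ResidueField.map_residue]
      exact congrArg (residue T) (RingHom.congr_fun hg a)
    refine Polynomial.Separable.of_dvd (f := (minpoly (ResidueField C) x).map τ) (Polynomial.Separable.map hx) ?_
    refine minpoly.dvd _ _ ?_
    rw [Polynomial.aeval_def, Polynomial.eval₂_map, hτ, ← Polynomial.aeval_def, minpoly.aeval]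
  obtain ⟨s, hs⟩ := IsSepClosed.algebraMap_surjective (ResidueField S') (ResidueField T) (residue T c)
  obtain ⟨s, rfl⟩ := residue_surjective s
  refine ⟨s, (residue_eq_zero_iff _).1 ?_⟩
  rw [map_sub, ← hs]
  exact sub_eq_zero.2 (ResidueField.map_residue (algebraMap S' T) s)

end Completion

end Groth.Agent.Brnch26
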