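import Groth.Agent.Brnch26.Decomp
import Mathlib.FieldTheory.PurelyInseparable.Basic
import Mathlib.FieldTheory.PurelyInseparable.PerfectClosure
import Mathlib.Topology.Algebra.InfiniteSum.Basic

/-! Branches of a quotient by a minimal prime, and the counts one. -/

set_option autoImplicit false
set_option linter.style.haveILetI false

universe u

open IsLocalRing

namespace Groth.Agent.Brnch26

open Groth.Agent

theorem card_eq_one_iff {α : Type*} : ENat.card α = 1 ↔ Subsingleton α ∧ Nonempty α := by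
  rw [ENat.card_eq_one_iff_unique]
  exact ⟨fun ⟨u⟩ => ⟨@Unique.instSubsingleton _ u, ⟨u.default⟩⟩, fun ⟨_, ⟨a⟩⟩ => ⟨uniqueOfSubsingleton a⟩⟩

variable (A : Type u) [CommRing A] [IsLocalRing A]

theorem isUnibranch_iff : Brnch.numBranches A = 1 ↔ CAlg2.IsUnibranch A := by
  classical
  constructor
  · intro h
    have hfin : (minimalPrimes A).Finite := by
      by_contra hfin
      rw [Brnch.numBranches, if_neg hfin] at h
      exact ENat.top_ne_one h
    have h1 := h
    rw [numBranches_eq_sigma, card_eq_one_iff] at h1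
    rw [Brnch.numBranches, if_pos hfin, card_eq_one_iff] at h
    obtain ⟨hs1, hn1⟩ := h1
    obtain ⟨hs, ⟨m⟩⟩ := h
    obtain ⟨⟨p, -⟩⟩ := hn1
    have huniq : ∀ q : minimalPrimes A, q = p := fun q => by
      obtain ⟨mq⟩ := (inferInstance : Nonempty (MaximalSpectrum (Comp A q)))
      obtain ⟨mp⟩ := (inferInstance : Nonempty (MaximalSpectrum (Comp A p)))
      exact congrArg Sigma.fst (Subsingleton.elim (⟨q, mq⟩ : Σ r, MaximalSpectrum (Comp A r)) ⟨p, mp⟩)
    have hnil : nilradical A = p.1 := le_antisymm (nilradical_le_prime p.1) fun a ha =>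
      mem_nilradical_of_forall fun q => by rw [huniq q]; exact ha
    have : (nilradical A).IsPrime := hnil ▸ p.2.1.1
    refine ⟨Ideal.Quotient.isDomain _, ?_⟩
    haveI : Nontrivial (CAlg2.normRed A) := nontrivial_of_ne 1 0 fun h0 =>
      m.isMaximal.ne_top ((Ideal.eq_top_iff_one _).2 (h0 ▸ m.asIdeal.zero_mem))
    exact IsLocalRing.of_unique_max_ideal ⟨m.asIdeal, m.isMaximal, fun I hI =>
      congrArg MaximalSpectrum.asIdeal (Subsingleton.elim (⟨I, hI⟩ : MaximalSpectrum _) m)⟩
  · rintro ⟨hdom, hloc⟩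
    have : (nilradical A).IsPrime := (Ideal.Quotient.isDomain_iff_prime _).1 hdom
    have hfin : (minimalPrimes A).Finite := by
      refine (Set.finite_singleton (nilradical A)).subset fun q hq => ?_
      have := hq.1.1
      exact le_antisymm (hq.2 ⟨inferInstance, bot_le⟩ (nilradical_le_prime q)) (nilradical_le_prime q)
    rw [Brnch.numBranches, if_pos hfin, card_eq_one_iff]
    exact ⟨⟨fun a b => MaximalSpectrum.ext ((eq_maximalIdeal a.isMaximal).trans
      (eq_maximalIdeal b.isMaximal).symm)⟩, inferInstance⟩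

theorem enat_card_field_emb_congr {κ κ' E : Type u} [Field κ] [Field κ'] [Field E] [Algebra κ E]
    [Algebra κ' E] (e : κ ≃+* κ') (he : ∀ x, algebraMap κ' E (e x) = algebraMap κ E x) :
    ENat.card (Field.Emb κ E) = ENat.card (Field.Emb κ' E) := by
  refine ENat.card_congr
    { toFun := fun σ => { σ.toRingHom with commutes' := fun y => ?_ }
      invFun := fun τ => { τ.toRingHom with commutes' := fun x => ?_ }
      left_inv := fun σ => AlgHom.ext fun _ => rfl
      right_inv := fun τ => AlgHom.ext fun _ => rfl }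
  · obtain ⟨x, rfl⟩ := e.surjective y
    rw [IsScalarTower.algebraMap_apply κ' E (AlgebraicClosure E), he]
    exact (σ.commutes x).trans (IsScalarTower.algebraMap_apply κ E (AlgebraicClosure E) x)
  · rw [IsScalarTower.algebraMap_apply κ E (AlgebraicClosure E), ← he]
    exact (τ.commutes (e x)).trans (IsScalarTower.algebraMap_apply κ' E (AlgebraicClosure E) _)

/-- The residue algebra of a maximal ideal of an integral algebra. -/
noncomputable def residueHom {D : Type u} [CommRing D] [Algebra A D] [Algebra.IsIntegral A D]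
    (m : MaximalSpectrum D) : ResidueField A →+* D ⧸ m.asIdeal :=
  Ideal.Quotient.lift (maximalIdeal A) ((Ideal.Quotient.mk m.asIdeal).comp (algebraMap A D))
    fun a ha => by
      rw [RingHom.comp_apply, Ideal.Quotient.eq_zero_iff_mem]
      rw [← isMaximal_comap_of_maximal A m] at ha
      exact ha

theorem enat_card_embOf {D : Type u} [CommRing D] [Algebra A D] [Algebra.IsIntegral A D]
    (m : MaximalSpectrum D) :
    ENat.card (VarNorm.EmbOf A D m) =
      (letI := Ideal.Quotient.field m.asIdeal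
       letI := (residueHom A m).toAlgebra
       ENat.card (Field.Emb (ResidueField A) (D ⧸ m.asIdeal))) := by
  letI := Ideal.Quotient.field m.asIdeal
  letI := (residueHom A m).toAlgebra
  obtain ⟨⟨e⟩, -⟩ := VarNorm.nonempty_embOf_equiv A m (D ⧸ m.asIdeal) (RingEquiv.refl _)
    (fun a => rfl)
  exact ENat.card_congr e

theorem subsingleton_embOf_iff {D : Type u} [CommRing D] [Algebra A D] [Algebra.IsIntegral A D]
    (m : MaximalSpectrum D) :
    Subsingleton (VarNorm.EmbOf A D m) ↔ ∀ x : D ⧸ m.asIdeal,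
      ∃ n : ℕ, x ^ (ringExpChar (D ⧸ m.asIdeal)) ^ n ∈
        ((Ideal.Quotient.mk m.asIdeal).comp (algebraMap A D)).range := by
  letI := Ideal.Quotient.field m.asIdeal
  letI := (residueHom A m).toAlgebra
  obtain ⟨⟨e⟩, halg⟩ := VarNorm.nonempty_embOf_equiv A m (D ⧸ m.asIdeal) (RingEquiv.refl _)
    (fun a => rfl)
  haveI := halg
  have hq : ringExpChar (ResidueField A) = ringExpChar (D ⧸ m.asIdeal) := by
    haveI : ExpChar (ResidueField A) (ringExpChar (D ⧸ m.asIdeal)) :=
      ((residueHom A m).expChar_iff (residueHom A m).injective _).2 inferInstance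
    exact ringExpChar.eq _ (ringExpChar (D ⧸ m.asIdeal))
  haveI : ExpChar (ResidueField A) (ringExpChar (D ⧸ m.asIdeal)) := hq ▸ inferInstance
  rw [e.subsingleton_congr, ← isPurelyInseparable_iff_subsingleton_emb (F := ResidueField A),
    isPurelyInseparable_iff_pow_mem (ResidueField A) (ringExpChar (D ⧸ m.asIdeal))]
  refine forall_congr' fun x => exists_congr fun n => ?_
  have : (algebraMap (ResidueField A) (D ⧸ m.asIdeal)).range =
      ((Ideal.Quotient.mk m.asIdeal).comp (algebraMap A D)).range := by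
    ext z
    exact ⟨fun ⟨r, hr⟩ => by obtain ⟨a, rfl⟩ := residue_surjective r; exact ⟨a, hr⟩,
      fun ⟨a, ha⟩ => ⟨residue A a, ha⟩⟩
  rw [this]

theorem isGeomUnibranch_iff : Brnch.numGeomBranches A = 1 ↔ CAlg2.IsGeomUnibranch A := by
  classical
  letI : Algebra A (CAlg2.normRed A) :=
    ((algebraMap (CAlg2.red A) (CAlg2.normRed A)).comp (Ideal.Quotient.mk (nilradical A))).toAlgebra
  haveI : Algebra.IsIntegral A (CAlg2.normRed A) := ⟨fun z => by
    obtain ⟨P, hP, hP0⟩ := Algebra.IsIntegral.isIntegral (R := CAlg2.red A) z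
    obtain ⟨P₀, hP₀, -, hP₀m⟩ := Polynomial.lifts_and_natDegree_eq_and_monic
      (Polynomial.map_surjective (Ideal.Quotient.mk (nilradical A)) Ideal.Quotient.mk_surjective P) hP
    refine ⟨P₀, hP₀m, ?_⟩
    rw [← hP₀, Polynomial.eval₂_map] at hP0
    exact hP0⟩
  have hne : ∀ m' : MaximalSpectrum (CAlg2.normRed A), Nonempty (Brnch.Emb A m') := fun m' =>
    nonempty_embOf A m'
  by_cases hfin : (minimalPrimes A).Finite
  · have hb : Brnch.numBranches A = ENat.card (MaximalSpectrum (CAlg2.normRed A)) := by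
      rw [Brnch.numBranches, if_pos hfin]
    unfold CAlg2.IsGeomUnibranch
    rw [← isUnibranch_iff, hb, Brnch.numGeomBranches, if_pos hfin,
      card_eq_one_iff, card_eq_one_iff]
    constructor
    · rintro ⟨hs, ⟨⟨m, σ⟩⟩⟩
      refine ⟨⟨⟨fun a b => ?_⟩, ⟨m⟩⟩, fun m' hm' => ?_⟩
      · exact congrArg Sigma.fst (Subsingleton.elim
          (⟨a, (hne a).some⟩ : Σ m', Brnch.Emb A m') ⟨b, (hne b).some⟩)
      · exact (subsingleton_embOf_iff A (⟨m', hm'⟩ : MaximalSpectrum _)).1 ⟨fun s t =>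
          eq_of_heq (Sigma.mk.inj_iff.1 (Subsingleton.elim
            (⟨⟨m', hm'⟩, s⟩ : Σ m', Brnch.Emb A m') ⟨⟨m', hm'⟩, t⟩)).2⟩
    · rintro ⟨⟨hs, ⟨m⟩⟩, h⟩
      haveI : ∀ m' : MaximalSpectrum (CAlg2.normRed A), Subsingleton (Brnch.Emb A m') := fun m' =>
        haveI := m'.isMaximal
        (subsingleton_embOf_iff A m').2 (h m'.asIdeal)
      refine ⟨⟨fun ⟨a, s⟩ ⟨b, t⟩ => ?_⟩, ⟨⟨m, (hne m).some⟩⟩⟩
      obtain rfl : a = b := Subsingleton.elim a b
      exact congrArg (Sigma.mk a) (Subsingleton.elim s t)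
  · constructor
    · intro h
      rw [Brnch.numGeomBranches, if_neg hfin] at h
      exact absurd h ENat.top_ne_one
    · intro h
      have h1 := (isUnibranch_iff A).2 h.1
      rw [Brnch.numBranches, if_neg hfin] at h1
      exact absurd h1 ENat.top_ne_one

section Quot

variable {A} (p : minimalPrimes A)

instance isLocalHom_mk : IsLocalHom (Ideal.Quotient.mk p.1) :=
  haveI : Nontrivial (A ⧸ p.1) := Ideal.Quotient.nontrivial_iff.2 p.2.1.1.ne_top
  ⟨fun a ha => by
    by_contra h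
    have hm : a ∈ maximalIdeal A := (mem_maximalIdeal a).2 h
    obtain ⟨b, hb⟩ := isUnit_iff_exists_inv.1 ha
    obtain ⟨b, rfl⟩ := Ideal.Quotient.mk_surjective b
    rw [← map_mul, ← map_one (Ideal.Quotient.mk p.1), Ideal.Quotient.mk_eq_mk_iff_sub_mem] at hb
    refine (maximalIdeal.isMaximal A).ne_top ((Ideal.eq_top_iff_one _).2 ?_)
    have h1 := le_maximalIdeal p.2.1.1.ne_top hb
    have h2 := sub_mem ((maximalIdeal A).mul_mem_right b hm) h1
    rwa [sub_sub_cancel] at h2⟩

instance isLocalRing_quotient : IsLocalRing (A ⧸ p.1) :=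
  haveI : Nontrivial (A ⧸ p.1) := Ideal.Quotient.nontrivial_iff.2 p.2.1.1.ne_top
  IsLocalRing.of_surjective' (Ideal.Quotient.mk p.1) Ideal.Quotient.mk_surjective

theorem exists_quot_comp_equiv :
    ∃ ψ : integralClosure (A ⧸ p.1) p.1.ResidueField ≃+* Comp A p, ∀ a,
      ψ (algebraMap (A ⧸ p.1) _ (Ideal.Quotient.mk p.1 a)) = algebraMap A (Comp A p) a :=
  haveI : Algebra.IsIntegral A (A ⧸ p.1) :=
    ⟨fun z => by obtain ⟨a, rfl⟩ := Ideal.Quotient.mk_surjective z; exact isIntegral_algebraMap⟩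
  ⟨{ toFun := fun z => ⟨z.1, isIntegral_trans z.1 z.2⟩
     invFun := fun w => ⟨w.1, w.2.tower_top⟩
     map_mul' := fun _ _ => rfl
     map_add' := fun _ _ => rfl },
   fun a => Subtype.ext (IsScalarTower.algebraMap_apply A (A ⧸ p.1) p.1.ResidueField a).symm⟩

theorem numBranches_quotient :
    Brnch.numBranches (A ⧸ p.1) = ENat.card (MaximalSpectrum (Comp A p)) := by
  rw [VarNorm.numBranches_eq (A ⧸ p.1) p.1.ResidueField
    ((Set.finite_singleton _).subset (IsDomain.minimalPrimes_eq_singleton_bot (R := A ⧸ p.1)).le)]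
  obtain ⟨ψ, -⟩ := exists_quot_comp_equiv p
  exact ENat.card_congr (VarNorm.maximalSpectrumEquiv ψ).symm

theorem numGeomBranches_quotient :
    Brnch.numGeomBranches (A ⧸ p.1) =
      ENat.card (Σ m : MaximalSpectrum (Comp A p), VarNorm.EmbOf A (Comp A p) m) := by
  classical
  rw [VarNorm.numGeomBranches_eq (A ⧸ p.1) p.1.ResidueField
    ((Set.finite_singleton _).subset (IsDomain.minimalPrimes_eq_singleton_bot (R := A ⧸ p.1)).le)]
  obtain ⟨ψ, hψ⟩ := exists_quot_comp_equiv p
  rw [VarNorm.enat_card_sigma, VarNorm.enat_card_sigma,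
    ← (VarNorm.maximalSpectrumEquiv ψ).tsum_eq fun Q =>
      ENat.card (VarNorm.EmbOf (A ⧸ p.1) (integralClosure (A ⧸ p.1) p.1.ResidueField) Q)]
  refine tsum_congr fun m => ?_
  set Q := VarNorm.maximalSpectrumEquiv ψ m with hQdef
  rw [enat_card_embOf, enat_card_embOf]
  haveI := m.isMaximal
  haveI := Q.isMaximal
  letI := Ideal.Quotient.field m.asIdeal
  letI := Ideal.Quotient.field Q.asIdeal
  let χ : integralClosure (A ⧸ p.1) p.1.ResidueField ⧸ Q.asIdeal ≃+* Comp A p ⧸ m.asIdeal :=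
    Ideal.quotientEquiv _ _ ψ (Ideal.map_comap_of_surjective _ ψ.surjective _).symm
  let e : ResidueField (A ⧸ p.1) ≃+* ResidueField A :=
    (RingEquiv.ofBijective (ResidueField.map (Ideal.Quotient.mk p.1))
      ⟨(ResidueField.map (Ideal.Quotient.mk p.1)).injective, fun y => by
        obtain ⟨y, rfl⟩ := residue_surjective y
        obtain ⟨a, rfl⟩ := Ideal.Quotient.mk_surjective y
        exact ⟨residue A a, ResidueField.map_residue _ a⟩⟩).symm
  letI algm : Algebra (ResidueField A) (Comp A p ⧸ m.asIdeal) := (residueHom A m).toAlgebra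
  letI algQ : Algebra (ResidueField (A ⧸ p.1)) (integralClosure (A ⧸ p.1) p.1.ResidueField ⧸ Q.asIdeal) :=
    (residueHom (A ⧸ p.1) Q).toAlgebra
  letI algm' : Algebra (ResidueField (A ⧸ p.1)) (Comp A p ⧸ m.asIdeal) :=
    (χ.toRingHom.comp (residueHom (A ⧸ p.1) Q)).toAlgebra
  let χ' : (integralClosure (A ⧸ p.1) p.1.ResidueField ⧸ Q.asIdeal) ≃ₐ[ResidueField (A ⧸ p.1)]
      (Comp A p ⧸ m.asIdeal) := AlgEquiv.ofRingEquiv (f := χ) fun x => rfl
  obtain ⟨⟨e₁⟩, halgQ⟩ := VarNorm.nonempty_embOf_equiv (A ⧸ p.1) Q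
    (integralClosure (A ⧸ p.1) p.1.ResidueField ⧸ Q.asIdeal) (RingEquiv.refl _) (fun a => rfl)
  obtain ⟨⟨e₂⟩, -⟩ := VarNorm.nonempty_embOf_equiv (A ⧸ p.1) Q (Comp A p ⧸ m.asIdeal) χ
    (fun a => rfl)
  refine ((ENat.card_congr (e₁.symm.trans e₂)).trans ?_)
  refine enat_card_field_emb_congr e fun x => ?_
  obtain ⟨x, rfl⟩ := residue_surjective x
  obtain ⟨a, rfl⟩ := Ideal.Quotient.mk_surjective x
  have he : e (residue (A ⧸ p.1) (Ideal.Quotient.mk p.1 a)) = residue A a := by
    rw [RingEquiv.symm_apply_eq]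
    exact (ResidueField.map_residue _ a).symm
  rw [he]
  show Ideal.Quotient.mk m.asIdeal (algebraMap A (Comp A p) a) =
    Ideal.Quotient.mk m.asIdeal (ψ (algebraMap (A ⧸ p.1) _ (Ideal.Quotient.mk p.1 a)))
  rw [hψ]

end Quot

theorem tsum_eq_finsum' {ι : Type*} [Finite ι] (f : ι → ℕ∞) : ∑' i, f i = ∑ᶠ i, f i := by
  haveI := Fintype.ofFinite ι
  rw [tsum_fintype, finsum_eq_sum_of_fintype]

end Groth.Agent.Brnch26
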