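import Groth.Agent.Brnch26.FlatLift
import Groth.Agent.Brnch26.Emb
import Groth.Agent.Henz21.Pairs
import Groth.Agent.Henz21.Quotient
import Mathlib.RingTheory.Ideal.MinimalPrime.Localization
import Mathlib.Data.ENat.Basic

/-!
Minimal primes of quotients of henselizations, counted on etale stages over a global ring.
-/

set_option autoImplicit false
set_option linter.style.haveILetI false

universe u

open IsLocalRing CategoryTheory
open scoped TensorProduct

namespace Groth.Agent.Brnch26

open Groth.Agent

section Count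

variable {R K : Type u} [CommRing R] [Field K] [Algebra R K] (J : Ideal R)

/-- Minimal primes over `J` at a stage, below its point. -/
def stageSet {B : Type u} [CommRing B] [Algebra R B] (q : Ideal B) : Set (Ideal B) :=
  {P | P ∈ (J.map (algebraMap R B)).minimalPrimes ∧ P ≤ q}

theorem map_incl_eq (i : Henz21.Pt R K) :
    (J.map (algebraMap R i.S)).map (Henz21.H.incl i).toRingHom = J.map (algebraMap R (Henz21.H R K)) := by
  rw [Ideal.map_map]
  exact congrArg (fun f => Ideal.map f J) (RingHom.ext (Henz21.H.incl i).commutes)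

theorem hasGoingDown_incl (i : Henz21.Pt R K) :
    @Algebra.HasGoingDown i.S (Henz21.H R K) _ _ (Henz21.H.incl i).toRingHom.toAlgebra := by
  letI := (Henz21.H.incl i).toRingHom.toAlgebra
  haveI : Module.Flat i.S (Henz21.H R K) := flat_of_algHom_etale (Henz21.H.incl i)
  infer_instance

theorem comap_incl_mem (i : Henz21.Pt R K) {P : Ideal (Henz21.H R K)}
    (hP : P ∈ (J.map (algebraMap R (Henz21.H R K))).minimalPrimes) :
    P.comap (Henz21.H.incl i).toRingHom ∈ stageSet J (RingHom.ker i.pt) := by
  letI := (Henz21.H.incl i).toRingHom.toAlgebra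
  haveI := hasGoingDown_incl i
  obtain ⟨⟨hPp, hJP⟩, hmin⟩ := hP
  haveI := hPp
  refine ⟨⟨⟨Ideal.comap_isPrime _ _, ?_⟩, fun q hq hqle => ?_⟩, ?_⟩
  · rw [← Ideal.map_le_iff_le_comap, map_incl_eq]; exact hJP
  · haveI := hq.1
    haveI : P.LiesOver (P.comap (Henz21.H.incl i).toRingHom) := ⟨rfl⟩
    obtain ⟨Q, hQP, hQ, hQq⟩ := Ideal.exists_ideal_le_liesOver_of_le (Q := P) hqle
    have hq' : q = Q.comap (Henz21.H.incl i).toRingHom := hQq.over
    have hJQ : J.map (algebraMap R (Henz21.H R K)) ≤ Q := by
      rw [← map_incl_eq J i, Ideal.map_le_iff_le_comap, ← hq']; exact hq.2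
    exact (Ideal.comap_mono (hmin ⟨hQ, hJQ⟩ hQP)).trans hq'.ge
  · intro s hs
    have h := le_maximalIdeal hPp.ne_top hs
    rw [Henz21.H.maximalIdeal_eq, RingHom.mem_ker] at h
    rw [RingHom.mem_ker]
    exact (Henz21.H.proj_incl i s).symm.trans h

theorem exists_comap_incl_eq (i : Henz21.Pt R K) {q : Ideal i.S}
    (hq : q ∈ stageSet J (RingHom.ker i.pt)) :
    ∃ P ∈ (J.map (algebraMap R (Henz21.H R K))).minimalPrimes,
      P.comap (Henz21.H.incl i).toRingHom = q := by
  letI := (Henz21.H.incl i).toRingHom.toAlgebra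
  haveI := hasGoingDown_incl i
  obtain ⟨hqmin, hqle⟩ := hq
  haveI := hqmin.1.1
  have hm : (maximalIdeal (Henz21.H R K)).comap (Henz21.H.incl i).toRingHom = RingHom.ker i.pt := by
    ext s
    rw [Ideal.mem_comap, Henz21.H.maximalIdeal_eq, RingHom.mem_ker, RingHom.mem_ker]
    exact iff_of_eq (congrArg (· = 0) (Henz21.H.proj_incl i s))
  haveI : (RingHom.ker i.pt).IsPrime := RingHom.ker_isPrime _
  haveI : (maximalIdeal (Henz21.H R K)).LiesOver (RingHom.ker i.pt) := ⟨hm.symm⟩
  obtain ⟨Q, hQle, hQ, hQq⟩ := Ideal.exists_ideal_le_liesOver_of_le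
    (Q := maximalIdeal (Henz21.H R K)) hqle
  haveI := hQ
  have hq' : q = Q.comap (Henz21.H.incl i).toRingHom := hQq.over
  obtain ⟨P, hP, hPQ⟩ := Ideal.exists_minimalPrimes_le
    (I := J.map (algebraMap R (Henz21.H R K))) (J := Q)
    (by rw [← map_incl_eq J i, Ideal.map_le_iff_le_comap, ← hq']; exact hqmin.1.2)
  exact ⟨P, hP, le_antisymm (hq'.ge.trans' (Ideal.comap_mono hPQ))
    (hqmin.2 (comap_incl_mem J i hP).1.1 (hq'.ge.trans' (Ideal.comap_mono hPQ)))⟩

theorem exists_stage_rep (s : Finset (Henz21.H R K)) :
    ∃ i : Henz21.Pt R K, ∀ x ∈ s, x ∈ Set.range (Henz21.H.incl i) := by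
  classical
  induction s using Finset.induction with
  | empty => exact ⟨Henz21.H.base R K, by simp⟩
  | insert a s ha ih =>
    obtain ⟨i, hi⟩ := ih
    obtain ⟨j, t, ht⟩ := Henz21.H.exists_rep a
    refine ⟨IsFiltered.max i j, fun x hx => ?_⟩
    rcases Finset.mem_insert.1 hx with rfl | hx
    · exact ⟨_, (Henz21.H.incl_φ (IsFiltered.rightToMax i j) t).trans ht⟩
    · obtain ⟨y, rfl⟩ := hi x hx
      exact ⟨_, Henz21.H.incl_φ (IsFiltered.leftToMax i j) y⟩

theorem card_minimalPrimes_map_eq_iSup :
    (J.map (algebraMap R (Henz21.H R K))).minimalPrimes.encard =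
      ⨆ i : Henz21.Pt R K, (stageSet J (RingHom.ker i.pt)).encard := by
  classical
  refine le_antisymm ?_ (iSup_le fun i => ?_)
  · rw [← ENat.forall_natCast_le_iff_le]
    intro n hn
    obtain ⟨F, hF, hFn⟩ := Set.exists_subset_encard_eq hn
    have hfin : F.Finite := Set.finite_of_encard_eq_coe hFn
    have hsep : ∀ p : Ideal (Henz21.H R K) × Ideal (Henz21.H R K),
        p.1 ∈ F → p.2 ∈ F → p.1 ≠ p.2 → ∃ x, x ∈ p.1 ∧ x ∉ p.2 := fun p h1 h2 hne => by
      by_contra! h
      exact hne (le_antisymm h ((hF h2).2 (hF h1).1 h))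
    choose! x hx hx' using hsep
    obtain ⟨i, hi⟩ := exists_stage_rep ((hfin.toFinset ×ˢ hfin.toFinset).image x)
    refine le_iSup_of_le i ?_
    rw [← hFn]
    refine Set.encard_le_encard_of_injOn (f := fun P => P.comap (Henz21.H.incl i).toRingHom)
      (fun P hP => comap_incl_mem J i (hF hP)) fun a ha b hb hab => ?_
    by_contra hne
    obtain ⟨y, hy⟩ := hi (x (a, b)) (Finset.mem_image_of_mem _
      (Finset.mem_product.2 ⟨hfin.mem_toFinset.2 ha, hfin.mem_toFinset.2 hb⟩))
    refine hx' (a, b) ha hb hne ?_
    have h1 : y ∈ a.comap (Henz21.H.incl i).toRingHom := by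
      show Henz21.H.incl i y ∈ a
      rw [hy]; exact hx (a, b) ha hb hne
    have hab' : a.comap (Henz21.H.incl i).toRingHom = b.comap (Henz21.H.incl i).toRingHom := hab
    have h2 : y ∈ b.comap (Henz21.H.incl i).toRingHom := hab' ▸ h1
    rw [← hy]
    exact h2
  · choose P hP hPq using fun q : stageSet J (RingHom.ker i.pt) => exists_comap_incl_eq J i q.2
    rw [← ENat.card_coe_set_eq, ← Set.encard_univ]
    refine Set.encard_le_encard_of_injOn (f := P) (fun q _ => hP q) fun a _ b _ hab => Subtype.ext ?_
    rw [← hPq a, ← hPq b, hab]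

end Count

section Quot

variable {A B : Type u} [CommRing A] [IsLocalRing A] [CommRing B] [IsLocalRing B] (π : A →+* B)
  (hπ : Function.Surjective π)

theorem encard_minimalPrimes_quotient {S : Type*} [CommRing S] (J : Ideal S) :
    ENat.card (minimalPrimes (S ⧸ J)) = J.minimalPrimes.encard := by
  rw [Ideal.minimalPrimes_eq_comap, (Ideal.comap_injective_of_surjective _
    Ideal.Quotient.mk_surjective).encard_image]
  rfl

variable {S : Type u} [CommRing S] [IsLocalRing S] [Algebra A S] [IsLocalHom (algebraMap A S)]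

/-- The structure map of the quotient of a henselization. -/
noncomputable def quotMap : B →+* S ⧸ (RingHom.ker π).map (algebraMap A S) :=
  π.liftOfSurjective hπ ⟨(Ideal.Quotient.mk _).comp (algebraMap A S), fun a ha => by
    rw [RingHom.mem_ker, RingHom.comp_apply, Ideal.Quotient.eq_zero_iff_mem]
    exact Ideal.mem_map_of_mem _ ha⟩

theorem quotMap_apply (a : A) :
    quotMap (S := S) π hπ (π a) = Ideal.Quotient.mk _ (algebraMap A S a) :=
  RingHom.liftOfRightInverse_comp_apply _ _ (Function.rightInverse_surjInv hπ) _ a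

include hπ in
theorem isLocalHom_surj : IsLocalHom π := by
  refine ((local_hom_TFAE π).out 0 2).2 (Ideal.map_le_iff_le_comap.2 fun a ha => ?_)
  by_contra h
  obtain ⟨b, hb⟩ := isUnit_iff_exists_inv.1 (notMem_maximalIdeal.1 h)
  obtain ⟨c, rfl⟩ := hπ b
  have h1 : IsUnit (1 - a * c) → False := fun hu => by
    have := hu.map π
    rw [map_sub, map_one, map_mul, hb, sub_self] at this
    exact not_isUnit_zero this
  exact h1 (IsLocalRing.isUnit_one_sub_self_of_mem_nonunits _
    ((maximalIdeal A).mul_mem_right c ha))

include hπ in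
theorem map_ker_le : (RingHom.ker π).map (algebraMap A S) ≤ maximalIdeal S := by
  haveI := isLocalHom_surj π hπ
  refine Ideal.map_le_iff_le_comap.2 fun a ha => ?_
  rw [Ideal.mem_comap, mem_maximalIdeal, mem_nonunits_iff, isUnit_map_iff (algebraMap A S)]
  intro hu
  have := hu.map π
  rw [RingHom.mem_ker.1 ha] at this
  exact not_isUnit_zero this

include hπ in
theorem isLocalRing_quot : IsLocalRing (S ⧸ (RingHom.ker π).map (algebraMap A S)) :=
  haveI : Nontrivial (S ⧸ (RingHom.ker π).map (algebraMap A S)) :=
    Ideal.Quotient.nontrivial_iff.2 fun h =>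
      (maximalIdeal.isMaximal S).ne_top (top_le_iff.1 (h ▸ map_ker_le π hπ))
  IsLocalRing.of_surjective' (Ideal.Quotient.mk _) Ideal.Quotient.mk_surjective

include hπ in
theorem exists_quot_henselian [HenselianLocalRing S] :
    ∃ (_ : HenselianLocalRing (S ⧸ (RingHom.ker π).map (algebraMap A S))),
      IsLocalHom (quotMap (S := S) π hπ) := by
  haveI := isLocalRing_quot (S := S) π hπ
  haveI := Henz21.henselianLocalRing_of_surjective
    (Ideal.Quotient.mk ((RingHom.ker π).map (algebraMap A S))) Ideal.Quotient.mk_surjective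
  refine ⟨inferInstance, ⟨fun b hb => ?_⟩⟩
  obtain ⟨a, rfl⟩ := hπ b
  rw [quotMap_apply] at hb
  haveI := isLocalHom_surj (A := S) (B := S ⧸ (RingHom.ker π).map (algebraMap A S))
    (Ideal.Quotient.mk _) Ideal.Quotient.mk_surjective
  exact ((isUnit_map_iff (algebraMap A S) a).1 (isUnit_of_map_unit _ _ hb)).map π

include hπ in
theorem numBranches_of_surjective [hS : Hensel.IsHenselization A S] :
    Brnch.numBranches B = ((RingHom.ker π).map (algebraMap A S)).minimalPrimes.encard := by
  haveI := hS.henselian
  haveI := isLocalRing_quot (S := S) π hπ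
  obtain ⟨hhens, hloc⟩ := exists_quot_henselian (S := S) π hπ
  haveI := hhens
  letI := (quotMap (S := S) π hπ).toAlgebra
  haveI : IsLocalHom (algebraMap B (S ⧸ (RingHom.ker π).map (algebraMap A S))) := hloc
  haveI : Hensel.IsHenselization B (S ⧸ (RingHom.ker π).map (algebraMap A S)) :=
    { henselian := hhens
      universal := fun T _ _ f hf => by
        haveI := isLocalHom_surj π hπ
        obtain ⟨g, hg, hgu⟩ := hS.universal T (f.comp π) (RingHom.isLocalHom_comp _ _)
        have hker : (RingHom.ker π).map (algebraMap A S) ≤ RingHom.ker g :=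
          Ideal.map_le_iff_le_comap.2 fun a ha => by
            rw [Ideal.mem_comap, RingHom.mem_ker,
              show g (algebraMap A S a) = f (π a) from RingHom.congr_fun hg a,
              RingHom.mem_ker.1 ha, map_zero]
        refine ⟨Ideal.Quotient.lift _ g fun x hx => RingHom.mem_ker.1 (hker hx), ?_, fun g' hg' => ?_⟩
        · refine RingHom.ext fun b => ?_
          obtain ⟨a, rfl⟩ := hπ b
          rw [RingHom.comp_apply, RingHom.algebraMap_toAlgebra, quotMap_apply]
          exact RingHom.congr_fun hg a
        · refine Ideal.Quotient.ringHom_ext ?_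
          refine (hgu _ (RingHom.ext fun a => ?_)).trans (RingHom.ext fun x => rfl)
          have := RingHom.congr_fun hg' (π a)
          simp only [RingHom.comp_apply] at this ⊢
          rw [← this]
          exact congrArg g' (quotMap_apply π hπ a).symm }
  rw [← card_minimalPrimes_of_isHenselization (S ⧸ (RingHom.ker π).map (algebraMap A S)),
    encard_minimalPrimes_quotient]

include hπ in
theorem numGeomBranches_of_surjective [hS : Hensel.IsStrictHenselization A S] :
    Brnch.numGeomBranches B = ((RingHom.ker π).map (algebraMap A S)).minimalPrimes.encard := by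
  haveI := hS.henselian
  haveI := isLocalRing_quot (S := S) π hπ
  haveI := isLocalHom_surj π hπ
  obtain ⟨hhens, hloc⟩ := exists_quot_henselian (S := S) π hπ
  haveI := hhens
  letI := (quotMap (S := S) π hπ).toAlgebra
  let Q := S ⧸ (RingHom.ker π).map (algebraMap A S)
  let mk : S →+* Q := Ideal.Quotient.mk _
  haveI : IsLocalHom mk := isLocalHom_surj mk Ideal.Quotient.mk_surjective
  haveI : IsLocalHom (algebraMap B Q) := hloc
  let eA : ResidueField A ≃+* ResidueField B := RingEquiv.ofBijective (ResidueField.map π)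
    ⟨(ResidueField.map π).injective, fun y => by
      obtain ⟨y, rfl⟩ := residue_surjective y
      obtain ⟨a, rfl⟩ := hπ y
      exact ⟨residue A a, ResidueField.map_residue π a⟩⟩
  let eS : ResidueField S ≃+* ResidueField Q := RingEquiv.ofBijective (ResidueField.map mk)
    ⟨(ResidueField.map mk).injective, fun y => by
      obtain ⟨y, rfl⟩ := residue_surjective y
      obtain ⟨a, rfl⟩ := Ideal.Quotient.mk_surjective y
      exact ⟨residue S a, ResidueField.map_residue mk a⟩⟩
  have hsq : (algebraMap (ResidueField B) (ResidueField Q)).comp eA.toRingHom =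
      eS.toRingHom.comp (algebraMap (ResidueField A) (ResidueField S)) := by
    refine RingHom.ext fun x => ?_
    obtain ⟨a, rfl⟩ := residue_surjective x
    show residue Q (quotMap π hπ (π a)) = residue Q (mk (algebraMap A S a))
    rw [quotMap_apply]
  haveI : IsSepClosure (ResidueField A) (ResidueField S) := hS.isSepClosure
  haveI : IsSepClosed (ResidueField S) := hS.isSepClosure.sep_closed
  haveI : Algebra.IsSeparable (ResidueField A) (ResidueField S) := hS.isSepClosure.separable
  have hsep : IsSepClosure (ResidueField B) (ResidueField Q) := by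
    refine ⟨?_, Algebra.IsSeparable.of_equiv_equiv eA eS hsq⟩
    refine IsSepClosed.of_exists_root _ fun q hq hirr hsep => ?_
    obtain ⟨x, hx⟩ := IsSepClosed.exists_root (q.map eS.symm.toRingHom)
      (by rw [Polynomial.degree_map]; exact (Polynomial.degree_pos_of_irreducible hirr).ne') hsep.map
    refine ⟨eS x, eS.symm.injective ?_⟩
    rw [map_zero]
    refine Eq.trans ?_ hx
    show eS.symm.toRingHom (q.eval (eS x)) = _
    rw [← Polynomial.eval_map_apply]
    exact congrArg (fun y => Polynomial.eval y (q.map eS.symm.toRingHom)) (eS.symm_apply_apply x)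
  haveI : Hensel.IsStrictHenselization B Q :=
    { henselian := hhens
      isSepClosure := hsep
      universal := fun T _ _ f hf τ hτ => by
        obtain ⟨g, ⟨hg, hgr⟩, hgu⟩ := hS.universal T (f.comp π) (τ.comp eS.toRingHom)
          (RingHom.ext fun x => by
            obtain ⟨a, rfl⟩ := residue_surjective x
            have := RingHom.congr_fun hτ (residue B (π a))
            simp only [RingHom.comp_apply, ResidueField.map_residue] at this ⊢
            show τ (residue Q (mk (algebraMap A S a))) = residue T (f (π a))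
            rw [← this]
            exact congrArg (fun z => τ (residue Q z)) (quotMap_apply π hπ a).symm)
        have hker : (RingHom.ker π).map (algebraMap A S) ≤ RingHom.ker g :=
          Ideal.map_le_iff_le_comap.2 fun a ha => by
            rw [Ideal.mem_comap, RingHom.mem_ker,
              show g (algebraMap A S a) = f (π a) from RingHom.congr_fun hg a,
              RingHom.mem_ker.1 ha, map_zero]
        refine ⟨Ideal.Quotient.lift _ g fun x hx => RingHom.mem_ker.1 (hker hx), ⟨?_, fun y => ?_⟩, fun g' hg' => ?_⟩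
        · refine RingHom.ext fun b => ?_
          obtain ⟨a, rfl⟩ := hπ b
          rw [RingHom.comp_apply, RingHom.algebraMap_toAlgebra, quotMap_apply]
          exact RingHom.congr_fun hg a
        · obtain ⟨y, rfl⟩ := Ideal.Quotient.mk_surjective y
          exact hgr y
        · refine Ideal.Quotient.ringHom_ext ?_
          refine (hgu _ ⟨RingHom.ext fun a => ?_, fun x => hg'.2 (mk x)⟩).trans (RingHom.ext fun x => rfl)
          have := RingHom.congr_fun hg'.1 (π a)
          simp only [RingHom.comp_apply] at this ⊢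
          rw [← this]
          exact congrArg g' (quotMap_apply π hπ a).symm }
  rw [← card_minimalPrimes_of_isStrictHenselization Q, encard_minimalPrimes_quotient]

end Quot

section AtPrime

variable {R A K : Type u} [CommRing R] (p : Ideal R) [p.IsPrime] [CommRing A] [IsLocalRing A]
  [Algebra R A] [IsLocalization.AtPrime A p] [Field K] [Algebra A K] [IsLocalHom (algebraMap A K)]
  [Algebra R K] [IsScalarTower R A K] [Algebra R (Henz21.H A K)]
  [IsScalarTower R A (Henz21.H A K)]

theorem algHom_ext_proj' {S : Type u} [CommRing S] [Algebra R S] [Algebra.Etale R S]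
    {f g : S →ₐ[R] Henz21.H A K} (h : ∀ s, Henz21.H.proj A K (f s) = Henz21.H.proj A K (g s)) :
    f = g := by
  let F := Algebra.TensorProduct.lift (Algebra.ofId A (Henz21.H A K)) f fun _ _ => .all _ _
  let G := Algebra.TensorProduct.lift (Algebra.ofId A (Henz21.H A K)) g fun _ _ => .all _ _
  have : F = G := Henz21.H.algHom_ext_proj (AlgHom.ext fun z => by
    induction z using TensorProduct.induction_on with
    | zero => simp
    | tmul a s => simp [F, G, h]
    | add a b ha hb => rw [map_add, map_add, ha, hb])
  refine AlgHom.ext fun s => ?_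
  have := DFunLike.congr_fun this ((1 : A) ⊗ₜ[R] s)
  simpa [F, G] using this

include p in
/-- The colimit over the global ring agrees with that over the local ring. -/
theorem exists_equiv_atPrime (hsurj : Function.Surjective (Henz21.H.proj R K)) :
    Nonempty (Henz21.H R K ≃ₐ[R] Henz21.H A K) := by
  classical
  have hu : ∀ y : p.primeCompl, IsUnit (algebraMap R (Henz21.H R K) y) := fun y => by
    refine Henz21.H.isUnit_of_isUnit_proj ?_
    rw [AlgHom.commutes, IsScalarTower.algebraMap_apply R A K]
    exact (IsLocalization.map_units A y).map _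
  letI : Algebra A (Henz21.H R K) :=
    (IsLocalization.lift (M := p.primeCompl) (g := algebraMap R (Henz21.H R K)) hu).toAlgebra
  haveI : IsScalarTower R A (Henz21.H R K) :=
    IsScalarTower.of_algebraMap_eq fun r => (IsLocalization.lift_eq hu r).symm
  let projA : Henz21.H R K →ₐ[A] K :=
    { Henz21.H.proj R K with
      commutes' := fun a => RingHom.congr_fun (IsLocalization.ringHom_ext p.primeCompl
        (j := (Henz21.H.proj R K).toRingHom.comp (algebraMap A (Henz21.H R K)))
        (k := algebraMap A K) (RingHom.ext fun r => by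
          simp only [RingHom.comp_apply]
          rw [← IsScalarTower.algebraMap_apply R A (Henz21.H R K),
            ← IsScalarTower.algebraMap_apply R A K]
          exact (Henz21.H.proj R K).commutes r)) a }
  haveI : IsLocalHom (Henz21.H.proj R K).toRingHom :=
    ⟨fun _ h => Henz21.H.isUnit_of_isUnit_proj h⟩
  let ψ : ResidueField (Henz21.H R K) ≃+* K := RingEquiv.ofBijective
    (ResidueField.lift (Henz21.H.proj R K).toRingHom)
    ⟨(ResidueField.lift (Henz21.H.proj R K).toRingHom).injective, fun y => by
      obtain ⟨x, hx⟩ := hsurj y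
      exact ⟨residue _ x, hx⟩⟩
  let ψ' : K →ₐ[A] ResidueField (Henz21.H R K) :=
    { ψ.symm.toRingHom with
      commutes' := fun a => by
        show ψ.symm (algebraMap A K a) = residue _ (algebraMap A (Henz21.H R K) a)
        rw [RingEquiv.symm_apply_eq]
        exact (projA.commutes a).symm }
  obtain ⟨φ, hφ, -⟩ := Henz21.H.existsUnique_lift (T := Henz21.H R K)
    (ψ'.comp (Henz21.H.proj A K))
  have hφp : ∀ z, Henz21.H.proj R K (φ z) = Henz21.H.proj A K z := fun z => by
    have h1 : residue _ (φ z) = ψ.symm (Henz21.H.proj A K z) := DFunLike.congr_fun hφ z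
    have h2 := congrArg ψ h1
    rw [RingEquiv.apply_symm_apply] at h2
    exact h2
  have hex : ∀ i : Henz21.Pt R K, ∃ g : i.S →ₐ[R] Henz21.H A K,
      ∀ s, Henz21.H.proj A K (g s) = i.pt s := fun i => by
    let σ : A ⊗[R] i.S →ₐ[A] K := Algebra.TensorProduct.lift (Algebra.ofId A K) i.pt fun _ _ => .all _ _
    obtain ⟨j, e, he⟩ := Henz21.Pt.exists_equiv (A ⊗[R] i.S) σ
    refine ⟨(((Henz21.H.incl j).comp e.toAlgHom).restrictScalars R).comp
      Algebra.TensorProduct.includeRight, fun s => ?_⟩
    show Henz21.H.proj A K (Henz21.H.incl j (e (1 ⊗ₜ s))) = i.pt s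
    rw [Henz21.H.proj_incl, he]
    simp [σ]
  choose g hg using hex
  let γ : Henz21.H R K →ₐ[R] Henz21.H A K := Henz21.H.lift g fun i j f =>
    algHom_ext_proj' fun s => by
      show Henz21.H.proj A K (g j (f.φ s)) = _
      rw [hg, hg, f.pt_apply]
  have h1 : (φ.restrictScalars R).comp γ = AlgHom.id R _ := Henz21.H.algHom_ext fun i =>
    DFunLike.congr_fun (Henz21.H.algHom_ext_proj
      (f := ((φ.restrictScalars R).comp γ).comp (Henz21.H.incl i))
      (g := (AlgHom.id R _).comp (Henz21.H.incl i)) <| AlgHom.ext fun s => by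
      show Henz21.H.proj R K (φ (γ (Henz21.H.incl i s))) = _
      rw [hφp, Henz21.H.lift_incl, hg]
      exact (Henz21.H.proj_incl i s).symm)
  have h2 : ∀ z, γ (φ z) = z := by
    let γA : Henz21.H R K →ₐ[A] Henz21.H A K :=
      { γ with
        commutes' := fun a => RingHom.congr_fun (IsLocalization.ringHom_ext p.primeCompl
          (j := γ.toRingHom.comp (algebraMap A (Henz21.H R K)))
          (k := algebraMap A (Henz21.H A K)) (RingHom.ext fun r => by
            simp only [RingHom.comp_apply]
            rw [← IsScalarTower.algebraMap_apply R A (Henz21.H R K)]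
            show γ (algebraMap R (Henz21.H R K) r) = _
            rw [AlgHom.commutes]
            exact IsScalarTower.algebraMap_apply R A (Henz21.H A K) r)) a }
    have : γA.comp φ = AlgHom.id A _ := Henz21.H.algHom_ext fun j =>
      DFunLike.congr_fun (Henz21.H.algHom_ext_proj
        (f := (γA.comp φ).comp (Henz21.H.incl j))
        (g := (AlgHom.id A _).comp (Henz21.H.incl j)) <| AlgHom.ext fun s => by
        show Henz21.H.proj A K (γ (φ (Henz21.H.incl j s))) = Henz21.H.proj A K (Henz21.H.incl j s)
        obtain ⟨i, t, ht⟩ := Henz21.H.exists_rep (φ (Henz21.H.incl j s))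
        rw [← ht, Henz21.H.lift_incl, hg, ← Henz21.H.proj_incl i t, ht, hφp])
    exact fun z => DFunLike.congr_fun this z
  exact ⟨AlgEquiv.ofAlgHom γ (φ.restrictScalars R) (AlgHom.ext h2) h1⟩

end AtPrime

end Groth.Agent.Brnch26
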