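import Groth.Agent.VarNorm.Branches
import Mathlib.RingTheory.LocalRing.ResidueField.Ideal
import Mathlib.RingTheory.Spectrum.Prime.RingHom
import Mathlib.RingTheory.Ideal.Maximal
import Mathlib.FieldTheory.IsAlgClosed.Basic
import Mathlib.Algebra.Group.Pi.Units

/-!
The normalization of the reduction, componentwise: branches are maximal ideals of the integral
closures in the residue fields of the minimal primes.
-/

set_option autoImplicit false

universe u

namespace Groth.Agent.Brnch26

open Groth.Agent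

section Comp

variable (A : Type u) [CommRing A]

instance (p : minimalPrimes A) : p.1.IsPrime := p.2.1.1

/-- The normalization of the component of a minimal prime. -/
abbrev Comp (p : minimalPrimes A) : Type u := integralClosure A p.1.ResidueField

variable {A}

theorem exists_mem_forall_notMem [Finite (minimalPrimes A)] (p : minimalPrimes A) :
    ∃ e : A, e ∉ p.1 ∧ ∀ q : minimalPrimes A, q ≠ p → e ∈ q.1 := by
  classical
  have := Fintype.ofFinite (minimalPrimes A)
  have h : ∀ q : minimalPrimes A, ∃ x : A, x ∉ p.1 ∧ (q ≠ p → x ∈ q.1) := fun q => by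
    by_cases hq : q = p
    · exact ⟨1, p.1.one_notMem, fun h => absurd hq h⟩
    · have hle : ¬ q.1 ≤ p.1 := fun h => hq (Subtype.ext (le_antisymm h (p.2.2 q.2.1 h)))
      obtain ⟨x, hx, hx'⟩ := SetLike.not_le_iff_exists.1 hle
      exact ⟨x, hx', fun _ => hx⟩
  choose x hx hx' using h
  refine ⟨∏ q, x q, fun h => ?_, fun q hq => ?_⟩
  · obtain ⟨q, -, hq⟩ := (Ideal.IsPrime.prod_mem_iff).1 h
    exact hx q hq
  · exact Ideal.mem_of_dvd _ (Finset.dvd_prod_of_mem x (Finset.mem_univ q)) (hx' q hq)

theorem mem_nilradical_of_forall {a : A} (h : ∀ p : minimalPrimes A, a ∈ p.1) :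
    a ∈ nilradical A := by
  rw [nilradical, ← Ideal.sInf_minimalPrimes, Submodule.mem_sInf]
  exact fun q hq => h ⟨q, hq⟩

/-- An element of the product of the residue fields of the minimal primes. -/
abbrev Tot (A : Type u) [CommRing A] : Type u := ∀ p : minimalPrimes A, p.1.ResidueField

theorem nilradical_le_ker_tot :
    ∀ a ∈ nilradical A, algebraMap A (Tot A) a = 0 := fun a ha =>
  funext fun p => by
    rw [Pi.algebraMap_apply, Pi.zero_apply, Ideal.algebraMap_residueField_eq_zero]
    exact nilradical_le_prime p.1 ha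

theorem exists_fractionRing_tot [Finite (minimalPrimes A)]
    [Algebra (CAlg2.red A) (Tot A)] [IsScalarTower A (CAlg2.red A) (Tot A)] :
    IsFractionRing (CAlg2.red A) (Tot A) := by
  classical
  have := Fintype.ofFinite (minimalPrimes A)
  have hmk : ∀ a, algebraMap (CAlg2.red A) (Tot A) (Ideal.Quotient.mk _ a) =
      algebraMap A (Tot A) a := fun a => (IsScalarTower.algebraMap_apply A (CAlg2.red A) _ a).symm
  have hzero : ∀ a : A, algebraMap A (Tot A) a = 0 →
      Ideal.Quotient.mk (nilradical A) a = 0 := fun a ha => by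
    refine Ideal.Quotient.eq_zero_iff_mem.2 (mem_nilradical_of_forall fun p => ?_)
    have := congr_fun ha p
    rwa [Pi.algebraMap_apply, Pi.zero_apply, Ideal.algebraMap_residueField_eq_zero] at this
  choose e he he' using fun p : minimalPrimes A => exists_mem_forall_notMem p
  refine { map_units := ?_, surj := ?_, exists_of_eq := ?_ }
  · rintro ⟨s, hs⟩
    obtain ⟨s, rfl⟩ := Ideal.Quotient.mk_surjective s
    simp only [hmk]
    refine Pi.isUnit_iff.2 fun p => IsUnit.mk0 _ fun h => ?_
    rw [Pi.algebraMap_apply, Ideal.algebraMap_residueField_eq_zero] at h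
    have hep : s * e p ∈ nilradical A := mem_nilradical_of_forall fun q => by
      by_cases hq : q = p
      · subst hq; exact q.1.mul_mem_right _ h
      · exact q.1.mul_mem_left _ (he' p q hq)
    have h0 : Ideal.Quotient.mk (nilradical A) (e p) = 0 :=
      (mem_nonZeroDivisors_iff_right.1 hs) _ (by
        rw [← map_mul, mul_comm, Ideal.Quotient.eq_zero_iff_mem]; exact hep)
    exact he p (nilradical_le_prime p.1 (Ideal.Quotient.eq_zero_iff_mem.1 h0))
  · intro z
    have hz : ∀ p : minimalPrimes A, ∃ a s : A, s ∉ p.1 ∧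
        z p * algebraMap A p.1.ResidueField s = algebraMap A p.1.ResidueField a := fun p => by
      obtain ⟨⟨a, ⟨s, hs⟩⟩, h⟩ := IsLocalization.surj (nonZeroDivisors (A ⧸ p.1)) (z p)
      obtain ⟨a, rfl⟩ := Ideal.Quotient.mk_surjective a
      obtain ⟨s, rfl⟩ := Ideal.Quotient.mk_surjective s
      refine ⟨a, s, fun h' => nonZeroDivisors.ne_zero hs (Ideal.Quotient.eq_zero_iff_mem.2 h'), ?_⟩
      rw [IsScalarTower.algebraMap_apply A (A ⧸ p.1) p.1.ResidueField,
        IsScalarTower.algebraMap_apply A (A ⧸ p.1) p.1.ResidueField, Ideal.Quotient.algebraMap_eq]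
      exact h
    choose a s hs has using hz
    let d := ∑ p, e p * s p
    have hsum : ∀ (f : minimalPrimes A → A) (q : minimalPrimes A),
        algebraMap A q.1.ResidueField (∑ p, e p * f p) =
          algebraMap A q.1.ResidueField (e q * f q) := fun f q => by
      rw [map_sum, Finset.sum_eq_single q]
      · intro p _ hp
        rw [Ideal.algebraMap_residueField_eq_zero]
        exact q.1.mul_mem_right _ (he' p q hp.symm)
      · exact fun h => absurd (Finset.mem_univ q) h
    have hd : ∀ q : minimalPrimes A, d ∉ q.1 := fun q h => by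
      rw [← Ideal.algebraMap_residueField_eq_zero, hsum, Ideal.algebraMap_residueField_eq_zero] at h
      exact (q.2.1.1.mem_or_mem h).elim (he q) (hs q)
    refine ⟨⟨Ideal.Quotient.mk _ (∑ p, e p * a p), ⟨Ideal.Quotient.mk _ d, ?_⟩⟩, ?_⟩
    · rw [mem_nonZeroDivisors_iff_right]
      intro b hb
      obtain ⟨b, rfl⟩ := Ideal.Quotient.mk_surjective b
      rw [← map_mul, Ideal.Quotient.eq_zero_iff_mem] at hb
      refine Ideal.Quotient.eq_zero_iff_mem.2 (mem_nilradical_of_forall fun q => ?_)
      exact (q.2.1.1.mem_or_mem (nilradical_le_prime q.1 hb)).resolve_right (hd q)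
    · simp only [hmk]
      funext q
      rw [Pi.mul_apply, Pi.algebraMap_apply, Pi.algebraMap_apply, hsum, hsum, map_mul, map_mul,
        ← has q]
      ring
  · intro x y h
    obtain ⟨x, rfl⟩ := Ideal.Quotient.mk_surjective x
    obtain ⟨y, rfl⟩ := Ideal.Quotient.mk_surjective y
    rw [hmk, hmk, ← sub_eq_zero, ← map_sub] at h
    refine ⟨1, ?_⟩
    simp only [OneMemClass.coe_one, one_mul]
    exact sub_eq_zero.1 (by rw [← map_sub]; exact hzero _ h)

theorem exists_normRed_equiv_pi [Finite (minimalPrimes A)] :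
    ∃ ψ : CAlg2.normRed A ≃+* (∀ p, Comp A p), ∀ a p,
      ψ (algebraMap (CAlg2.red A) (CAlg2.normRed A) (Ideal.Quotient.mk (nilradical A) a)) p =
        algebraMap A (Comp A p) a := by
  classical
  have := Fintype.ofFinite (minimalPrimes A)
  let _ : Algebra (CAlg2.red A) (Tot A) :=
    (Ideal.Quotient.lift (nilradical A) (algebraMap A (Tot A)) nilradical_le_ker_tot).toAlgebra
  have : IsScalarTower A (CAlg2.red A) (Tot A) := IsScalarTower.of_algebraMap_eq fun a => rfl
  have := exists_fractionRing_tot (A := A)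
  have : Algebra.IsIntegral A (CAlg2.red A) :=
    ⟨fun z => by obtain ⟨a, rfl⟩ := Ideal.Quotient.mk_surjective z; exact isIntegral_algebraMap⟩
  let φ : CAlg2.normRed A ≃ₐ[CAlg2.red A] integralClosure (CAlg2.red A) (Tot A) :=
    (FractionRing.algEquiv (CAlg2.red A) (Tot A)).mapIntegralClosure
  have hpi : ∀ z : Tot A, IsIntegral A z ↔ ∀ p, IsIntegral A (z p) := fun z => by
    refine ⟨fun h p => h.map (Pi.evalAlgHom A (fun p : minimalPrimes A => p.1.ResidueField) p),
      fun h => ?_⟩
    choose P hP hP0 using h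
    refine ⟨∏ p, P p, Polynomial.monic_prod_of_monic _ _ fun p _ => hP p, funext fun p => ?_⟩
    rw [Pi.zero_apply]
    have := Polynomial.hom_eval₂ (∏ q, P q) (algebraMap A (Tot A))
      (Pi.evalRingHom (fun p : minimalPrimes A => p.1.ResidueField) p) z
    refine this.trans ?_
    show Polynomial.eval₂ (algebraMap A p.1.ResidueField) (z p) (∏ q, P q) = 0
    rw [Polynomial.eval₂_finsetProd]
    exact Finset.prod_eq_zero (Finset.mem_univ p) (hP0 p)
  let ι : integralClosure (CAlg2.red A) (Tot A) ≃+* (∀ p, Comp A p) :=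
    { toFun := fun z p => ⟨z.1 p, (hpi z.1).1 (isIntegral_trans z.1 z.2) p⟩
      invFun := fun w => ⟨fun p => (w p).1, ((hpi _).2 fun p => (w p).2).tower_top⟩
      map_mul' := fun _ _ => rfl
      map_add' := fun _ _ => rfl }
  refine ⟨φ.toRingEquiv.trans ι, fun a p => Subtype.ext ?_⟩
  show (φ (algebraMap _ _ (Ideal.Quotient.mk (nilradical A) a))).1 p = algebraMap A p.1.ResidueField a
  rw [φ.commutes]
  rfl

end Comp

/-- Maximal ideals of a finite product. -/
noncomputable def maxPiEquiv {ι : Type*} [Finite ι] (R : ι → Type*) [∀ i, CommRing (R i)] :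
    (Σ i, MaximalSpectrum (R i)) ≃ MaximalSpectrum (∀ i, R i) :=
  Equiv.ofBijective
    (fun x => ⟨x.2.asIdeal.comap (Pi.evalRingHom R x.1),
      Ideal.comap_isMaximal_of_surjective _ (Function.surjective_eval x.1)⟩)
    ⟨fun x y h => by
      have h' : PrimeSpectrum.sigmaToPi R ⟨x.1, x.2.toPrimeSpectrum⟩ =
          PrimeSpectrum.sigmaToPi R ⟨y.1, y.2.toPrimeSpectrum⟩ :=
        PrimeSpectrum.ext (congrArg MaximalSpectrum.asIdeal h)
      have h'' := PrimeSpectrum.sigmaToPi_injective R h'
      obtain ⟨i, m⟩ := x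
      obtain ⟨j, n⟩ := y
      simp only [Sigma.mk.injEq] at h''
      obtain ⟨rfl, h2⟩ := h''
      exact congrArg (Sigma.mk i) (MaximalSpectrum.ext (congrArg PrimeSpectrum.asIdeal (eq_of_heq h2))),
    fun Q => by
      obtain ⟨⟨i, q⟩, hq⟩ := (PrimeSpectrum.sigmaToPi_bijective R).2 Q.toPrimeSpectrum
      have hq' : q.asIdeal.comap (Pi.evalRingHom R i) = Q.asIdeal :=
        congrArg PrimeSpectrum.asIdeal hq
      have hmax : q.asIdeal.IsMaximal := by
        rw [← Ideal.map_comap_of_surjective (Pi.evalRingHom R i) (Function.surjective_eval i)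
          q.asIdeal, hq']
        exact (Ideal.map_eq_top_or_isMaximal_of_surjective _ (Function.surjective_eval i)
          Q.isMaximal).resolve_left fun h => q.isPrime.ne_top (by
            rw [← hq', Ideal.map_comap_of_surjective _ (Function.surjective_eval i)] at h; exact h)
      exact ⟨⟨i, ⟨q.asIdeal, hmax⟩⟩, MaximalSpectrum.ext hq'⟩⟩

theorem maxPiEquiv_asIdeal {ι : Type*} [Finite ι] (R : ι → Type*) [∀ i, CommRing (R i)]
    (x : Σ i, MaximalSpectrum (R i)) :
    (maxPiEquiv R x).asIdeal = x.2.asIdeal.comap (Pi.evalRingHom R x.1) := rfl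

section Count

variable (A : Type u) [CommRing A] [IsLocalRing A]

theorem infinite_sigma_of_infinite {ι : Type*} [Infinite ι] (T : ι → Type*) [∀ i, Nonempty (T i)] :
    Infinite (Σ i, T i) :=
  Infinite.of_surjective Sigma.fst fun i => ⟨⟨i, Classical.arbitrary _⟩, rfl⟩

theorem numBranches_eq_sigma :
    Brnch.numBranches A = ENat.card (Σ p : minimalPrimes A, MaximalSpectrum (Comp A p)) := by
  classical
  unfold Brnch.numBranches
  by_cases hfin : (minimalPrimes A).Finite
  · rw [if_pos hfin]
    have := hfin.to_subtype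
    obtain ⟨ψ, -⟩ := exists_normRed_equiv_pi (A := A)
    exact ENat.card_congr ((VarNorm.maximalSpectrumEquiv ψ).symm.trans (maxPiEquiv _).symm)
  · rw [if_neg hfin]
    have : Infinite (minimalPrimes A) := Set.infinite_coe_iff.2 hfin
    have := infinite_sigma_of_infinite fun p : minimalPrimes A => MaximalSpectrum (Comp A p)
    simp

theorem isMaximal_comap_of_maximal {D : Type u} [CommRing D] [Algebra A D] [Algebra.IsIntegral A D]
    (m : MaximalSpectrum D) : m.asIdeal.comap (algebraMap A D) = IsLocalRing.maximalIdeal A :=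
  have := m.isMaximal
  IsLocalRing.eq_maximalIdeal (Ideal.isMaximal_comap_of_isIntegral_of_isMaximal m.asIdeal)

/-- Embeddings, with equal kernels, of two algebras with isomorphic residue fields. -/
noncomputable def embOfEquiv {D : Type u} [CommRing D] [Algebra A D] {D' : Type u} [CommRing D'] [Algebra A D']
    (m : MaximalSpectrum D) (m' : MaximalSpectrum D') (χ : D ⧸ m.asIdeal ≃+* D' ⧸ m'.asIdeal)
    (hχ : ∀ a, χ (Ideal.Quotient.mk _ (algebraMap A D a)) =
      Ideal.Quotient.mk _ (algebraMap A D' a)) :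
    VarNorm.EmbOf A D m ≃ VarNorm.EmbOf A D' m' where
  toFun σ := ⟨σ.1.comp χ.symm.toRingHom, RingHom.ext fun a => by
    show σ.1 (χ.symm (Ideal.Quotient.mk _ (algebraMap A D' a))) = _
    rw [← hχ a, RingEquiv.symm_apply_apply]; exact RingHom.congr_fun σ.2 a⟩
  invFun τ := ⟨τ.1.comp χ.toRingHom, RingHom.ext fun a => by
    show τ.1 (χ (Ideal.Quotient.mk _ (algebraMap A D a))) = _
    rw [hχ a]; exact RingHom.congr_fun τ.2 a⟩
  left_inv σ := Subtype.ext (RingHom.ext fun z => congrArg σ.1 (χ.symm_apply_apply z))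
  right_inv τ := Subtype.ext (RingHom.ext fun z => congrArg τ.1 (χ.apply_symm_apply z))

theorem nonempty_embOf {D : Type u} [CommRing D] [Algebra A D] [Algebra.IsIntegral A D]
    (m : MaximalSpectrum D) : Nonempty (VarNorm.EmbOf A D m) := by
  have := m.isMaximal
  let := Ideal.Quotient.field m.asIdeal
  let κ := IsLocalRing.ResidueField A
  let ρ : κ →+* D ⧸ m.asIdeal := Ideal.Quotient.lift (IsLocalRing.maximalIdeal A)
    ((Ideal.Quotient.mk m.asIdeal).comp (algebraMap A D)) fun a ha => by
      rw [RingHom.comp_apply, Ideal.Quotient.eq_zero_iff_mem]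
      rw [← isMaximal_comap_of_maximal A m] at ha
      exact ha
  let := ρ.toAlgebra
  have : IsScalarTower A κ (D ⧸ m.asIdeal) := IsScalarTower.of_algebraMap_eq fun a => rfl
  have : Algebra.IsAlgebraic κ (D ⧸ m.asIdeal) :=
    have : Algebra.IsIntegral κ (D ⧸ m.asIdeal) :=
      have : Algebra.IsIntegral A (D ⧸ m.asIdeal) :=
        ⟨fun z => by
          obtain ⟨d, rfl⟩ := Ideal.Quotient.mk_surjective z
          exact (Algebra.IsIntegral.isIntegral (R := A) d).map (Ideal.Quotient.mkₐ A m.asIdeal)⟩
      Algebra.IsIntegral.tower_top A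
    inferInstance
  let σ : (D ⧸ m.asIdeal) →ₐ[κ] AlgebraicClosure κ := IsAlgClosed.lift
  exact ⟨⟨σ.toRingHom, RingHom.ext fun a => σ.commutes (IsLocalRing.residue A a)⟩⟩

theorem numGeomBranches_eq_sigma :
    Brnch.numGeomBranches A = ENat.card (Σ p : minimalPrimes A,
      Σ m : MaximalSpectrum (Comp A p), VarNorm.EmbOf A (Comp A p) m) := by
  classical
  unfold Brnch.numGeomBranches
  by_cases hfin : (minimalPrimes A).Finite
  · rw [if_pos hfin]
    have := hfin.to_subtype
    obtain ⟨ψ, hψ⟩ := exists_normRed_equiv_pi (A := A)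
    let _ : Algebra A (CAlg2.normRed A) :=
      ((algebraMap (CAlg2.red A) (CAlg2.normRed A)).comp (Ideal.Quotient.mk (nilradical A))).toAlgebra
    refine ENat.card_congr (Equiv.trans ?_ (Equiv.sigmaAssoc fun p m => VarNorm.EmbOf A (Comp A p) m))
    refine Equiv.sigmaCongr ((VarNorm.maximalSpectrumEquiv ψ).symm.trans (maxPiEquiv _).symm)
      fun m' => ?_
    generalize hx : ((VarNorm.maximalSpectrumEquiv ψ).symm.trans (maxPiEquiv _).symm) m' = x
    have hm' : m' = VarNorm.maximalSpectrumEquiv ψ (maxPiEquiv _ x) := by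
      rw [← hx]; simp
    subst hm'
    let π : CAlg2.normRed A →+* Comp A x.1 ⧸ x.2.asIdeal :=
      ((Ideal.Quotient.mk x.2.asIdeal).comp (Pi.evalRingHom (Comp A) x.1)).comp ψ.toRingHom
    have hπ : Function.Surjective π :=
      (Ideal.Quotient.mk_surjective.comp (Function.surjective_eval x.1)).comp ψ.surjective
    have hker : RingHom.ker π = (VarNorm.maximalSpectrumEquiv ψ (maxPiEquiv _ x)).asIdeal := by
      ext z
      exact Ideal.Quotient.eq_zero_iff_mem
    exact embOfEquiv A (D := CAlg2.normRed A) _ x.2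
      ((Ideal.quotEquivOfEq hker.symm).trans (RingHom.quotientKerEquivOfSurjective hπ))
      fun a => by
        exact congrArg (Ideal.Quotient.mk x.2.asIdeal) (hψ a x.1)
  · rw [if_neg hfin]
    have : Infinite (minimalPrimes A) := Set.infinite_coe_iff.2 hfin
    have : ∀ p : minimalPrimes A,
        Nonempty (Σ m : MaximalSpectrum (Comp A p), VarNorm.EmbOf A (Comp A p) m) := fun p => by
      obtain ⟨m⟩ := (inferInstance : Nonempty (MaximalSpectrum (Comp A p)))
      obtain ⟨σ⟩ := nonempty_embOf A m
      exact ⟨⟨m, σ⟩⟩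
    have := infinite_sigma_of_infinite fun p : minimalPrimes A =>
      Σ m : MaximalSpectrum (Comp A p), VarNorm.EmbOf A (Comp A p) m
    simp

end Count

end Groth.Agent.Brnch26
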