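import Groth.Agent.Henz21.IntegralLoc
import Mathlib.RingTheory.Flat.EquationalCriterion
import Mathlib.RingTheory.Noetherian.Basic
import Mathlib.RingTheory.Noetherian.Nilpotent
import Mathlib.Tactic.LinearCombination
import Mathlib.RingTheory.Flat.Basic
import Mathlib.RingTheory.Spectrum.Prime.Noetherian

/-!
A partition of the punctured spectrum descends from a flat local extension which does not change
the maximal ideal and the residue field to a Noetherian henselian local ring.
-/

set_option autoImplicit false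
set_option linter.style.haveILetI false

universe u

open IsLocalRing

namespace Groth.Agent.Brnch26

open Groth.Agent

section Sat

variable {C : Type u} [CommRing C] [IsLocalRing C]

/-- Saturation with respect to the maximal ideal. -/
def sat (K : Ideal C) : Ideal C where
  carrier := {z | ∃ n, ∀ x ∈ maximalIdeal C ^ n, x * z ∈ K}
  zero_mem' := ⟨0, fun x _ => by rw [mul_zero]; exact K.zero_mem⟩
  add_mem' := fun {a b} ⟨n, hn⟩ ⟨m, hm⟩ => ⟨n + m, fun x hx => by
    rw [mul_add]
    exact K.add_mem (hn x (Ideal.pow_le_pow_right (by omega) hx))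
      (hm x (Ideal.pow_le_pow_right (by omega) hx))⟩
  smul_mem' := fun r {z} ⟨n, hn⟩ => ⟨n, fun x hx => by
    rw [smul_eq_mul, mul_left_comm]; exact K.mul_mem_left r (hn x hx)⟩

theorem le_sat (K : Ideal C) : K ≤ sat K := fun _ hz => ⟨0, fun x _ => K.mul_mem_left x hz⟩

theorem sat_mono {K K' : Ideal C} (h : K ≤ K') : sat K ≤ sat K' :=
  fun _ ⟨n, hn⟩ => ⟨n, fun x hx => h (hn x hx)⟩

theorem exists_pow_mul_mem [IsNoetherianRing C] (K : Ideal C) :
    ∃ N, ∀ z ∈ sat K, ∀ x ∈ maximalIdeal C ^ N, x * z ∈ K := by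
  let f : ℕ →o Ideal C :=
    { toFun := fun n =>
        { carrier := {z | ∀ x ∈ maximalIdeal C ^ n, x * z ∈ K}
          zero_mem' := fun x _ => by rw [mul_zero]; exact K.zero_mem
          add_mem' := fun {a b} ha hb x hx => by rw [mul_add]; exact K.add_mem (ha x hx) (hb x hx)
          smul_mem' := fun r {z} hz x hx => by
            rw [smul_eq_mul, mul_left_comm]; exact K.mul_mem_left r (hz x hx) }
      monotone' := fun a b hab z hz x hx => hz x (Ideal.pow_le_pow_right hab hx) }
  obtain ⟨N, hN⟩ := WellFoundedGT.monotone_chain_condition f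
  refine ⟨N, fun z ⟨n, hn⟩ => ?_⟩
  have hz : z ∈ f (max n N) := fun x hx => hn x (Ideal.pow_le_pow_right (le_max_left n N) hx)
  rw [← hN (max n N) (le_max_right n N)] at hz
  exact hz

theorem sat_sat [IsNoetherianRing C] (K : Ideal C) : sat (sat K) = sat K := by
  refine le_antisymm (fun z ⟨n, hn⟩ => ?_) (le_sat _)
  obtain ⟨N, hN⟩ := exists_pow_mul_mem K
  refine ⟨N + n, fun x hx => ?_⟩
  rw [pow_add] at hx
  induction hx using Submodule.mul_induction_on' with
  | mem_mul_mem a ha b hb => rw [mul_assoc]; exact hN _ (hn b hb) a ha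
  | add a _ b _ ha hb => rw [add_mul]; exact K.add_mem ha hb

theorem sat_le_of_ne {K P : Ideal C} [P.IsPrime] (hP : P ≠ maximalIdeal C) (h : K ≤ P) :
    sat K ≤ P := by
  intro z ⟨n, hn⟩
  by_contra hz
  refine hP ((le_maximalIdeal ‹P.IsPrime›.ne_top).antisymm fun x hx => ?_)
  exact ‹P.IsPrime›.mem_of_pow_mem n
    ((‹P.IsPrime›.mem_or_mem (h (hn _ (Ideal.pow_mem_pow hx n)))).resolve_right hz)

end Sat

section Flat

variable {S C : Type u} [CommRing S] [CommRing C] [Algebra S C] [Module.Flat S C]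

theorem exists_ker_span {G ι : Type} [Fintype G] [Fintype ι] (f : G → ι → S) (z : ι → C)
    (h : ∀ g, ∑ i, f g i • z i = 0) :
    ∃ (k : ℕ) (zs : Fin k → ι → S) (c : Fin k → C),
      (∀ l g, ∑ i, f g i * zs l i = 0) ∧ ∀ i, z i = ∑ l, zs l i • c l := by
  classical
  let F : (G → S) →ₗ[S] (ι → S) := Fintype.linearCombination S f
  let x : (ι → S) →ₗ[S] C := Fintype.linearCombination S z
  have hxF : x ∘ₗ F = 0 := by
    refine (Pi.basisFun S G).ext fun g => ?_
    rw [Pi.basisFun_apply, LinearMap.comp_apply, LinearMap.zero_apply]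
    show x (F (Pi.single g 1)) = 0
    rw [Fintype.linearCombination_apply_single, one_smul, Fintype.linearCombination_apply]
    exact h g
  obtain ⟨k, a, y, hxy, haF⟩ := Module.Flat.exists_factorization_of_comp_eq_zero_of_free hxF
  refine ⟨k, fun l i => a (Pi.single i 1) l, fun l => y (Finsupp.single l 1), fun l g => ?_, fun i => ?_⟩
  · have h1 : a (f g) l = 0 := by
      have := LinearMap.congr_fun haF (Pi.single g 1)
      rw [LinearMap.comp_apply, LinearMap.zero_apply] at this
      have h2 : F (Pi.single g 1) = f g := by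
        show Fintype.linearCombination S f (Pi.single g 1) = f g
        rw [Fintype.linearCombination_apply_single, one_smul]
      rw [h2] at this
      rw [this, Finsupp.zero_apply]
    rw [← h1]
    conv_rhs => rw [show f g = ∑ i, f g i • (Pi.single i (1 : S) : ι → S) by
      ext j; simp [Finset.sum_apply, Pi.single_apply]]
    rw [map_sum, Finsupp.finset_sum_apply]
    exact Finset.sum_congr rfl fun i _ => by rw [map_smul, Finsupp.smul_apply, smul_eq_mul]
  · have h1 : z i = x (Pi.single i 1) := by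
      show z i = Fintype.linearCombination S z (Pi.single i 1)
      rw [Fintype.linearCombination_apply_single, one_smul]
    rw [h1, hxy, LinearMap.comp_apply]
    conv_lhs => rw [← Finsupp.univ_sum_single (a (Pi.single i 1)), map_sum]
    refine Finset.sum_congr rfl fun l _ => ?_
    rw [← map_smul, Finsupp.smul_single', mul_one]

end Flat

variable {S C : Type u} [CommRing S] [HenselianLocalRing S] [IsNoetherianRing S] [CommRing C]
  [IsLocalRing C] [IsNoetherianRing C] [Algebra S C] [Module.Flat S C]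
  (hm : (maximalIdeal S).map (algebraMap S C) = maximalIdeal C)
  (hres : ∀ c : C, ∃ s, c - algebraMap S C s ∈ maximalIdeal C)

omit [IsNoetherianRing S] [IsNoetherianRing C] [Module.Flat S C] in
include hm hres in
theorem exists_sub_mem_pow (n : ℕ) (c : C) :
    ∃ s, c - algebraMap S C s ∈ maximalIdeal C ^ n := by
  induction n generalizing c with
  | zero => exact ⟨0, by simp⟩
  | succ n ih =>
    obtain ⟨s, hs⟩ := ih c
    suffices h : ∀ d ∈ ((maximalIdeal S) ^ n).map (algebraMap S C),
        ∃ t, d - algebraMap S C t ∈ maximalIdeal C ^ (n + 1) by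
      obtain ⟨t, ht⟩ := h _ (by rw [Ideal.map_pow, hm]; exact hs)
      exact ⟨s + t, by rw [map_add, ← sub_sub]; exact ht⟩
    intro d hd
    induction hd using Submodule.span_induction with
    | mem d hd =>
      obtain ⟨x, hx, rfl⟩ := hd
      exact ⟨x, by rw [sub_self]; exact zero_mem _⟩
    | zero => exact ⟨0, by simp⟩
    | add a b _ _ ha hb =>
      obtain ⟨t, ht⟩ := ha
      obtain ⟨t', ht'⟩ := hb
      exact ⟨t + t', by rw [map_add, add_sub_add_comm]; exact add_mem ht ht'⟩
    | smul r a hmem ha =>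
      obtain ⟨t, ht⟩ := ha
      obtain ⟨s', hs'⟩ := hres r
      refine ⟨s' * t, ?_⟩
      have h1 : a ∈ maximalIdeal C ^ n := by
        rw [← hm, ← Ideal.map_pow]; exact hmem
      have e : r • a - algebraMap S C (s' * t) =
          (r - algebraMap S C s') * a + algebraMap S C s' * (a - algebraMap S C t) := by
        rw [smul_eq_mul, map_mul]; ring
      rw [e]
      refine add_mem ?_ (Ideal.mul_mem_left _ _ ht)
      rw [pow_succ']
      exact Ideal.mul_mem_mul hs' h1

omit [IsNoetherianRing S] [IsNoetherianRing C] [HenselianLocalRing S] in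
theorem exists_solution [IsLocalRing S] [IsLocalHom (algebraMap S C)] {G : Type} [Fintype G]
    (a b : G → S) (z : C) (h : ∀ g, algebraMap S C (a g) * z = algebraMap S C (b g)) :
    ∃ z₀ : S, ∀ g, a g * z₀ = b g := by
  obtain ⟨k, zs, c, h1, h2⟩ := exists_ker_span (fun g => ![a g, -b g]) ![z, 1] fun g => by
    simp [Fin.sum_univ_two, Algebra.smul_def, h g]
  obtain ⟨l, hl⟩ : ∃ l, IsUnit (zs l 1) := by
    by_contra! hno
    refine (maximalIdeal.isMaximal C).ne_top ((Ideal.eq_top_iff_one _).2 ?_)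
    have h3 : (1 : C) = ∑ l, zs l 1 • c l := by simpa using h2 1
    rw [h3]
    refine Submodule.sum_mem _ fun l _ => ?_
    rw [Algebra.smul_def]
    exact Ideal.mul_mem_right _ _ (map_nonunit _ _ (hno l))
  refine ⟨zs l 0 * ↑hl.unit⁻¹, fun g => ?_⟩
  have h3 : a g * zs l 0 = b g * zs l 1 := by
    have := h1 l g
    simp only [Fin.sum_univ_two, Matrix.cons_val_zero, Matrix.cons_val_one,
      Matrix.cons_val_fin_one] at this
    linear_combination this
  rw [← mul_assoc, h3, mul_assoc, hl.mul_val_inv, mul_one]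

include hm hres in
/-- A decomposition of the punctured spectrum descends. -/
theorem exists_descent [IsLocalHom (algebraMap S C)] (K₁ K₂ : Ideal C) (h₁ : sat K₁ = K₁)
    (h₂ : sat K₂ = K₂) (hinf : K₁ ⊓ K₂ ≤ sat ⊥) (k : ℕ)
    (hsum : maximalIdeal C ^ k ≤ K₁ ⊔ K₂) :
    maximalIdeal S ^ k ≤ K₁.comap (algebraMap S C) ⊔ K₂.comap (algebraMap S C) := by
  classical
  by_cases hK₁ : K₁ = ⊤
  · rw [hK₁, Ideal.comap_top, top_sup_eq]; exact le_top
  by_cases hK₂ : K₂ = ⊤
  · rw [hK₂, Ideal.comap_top, sup_top_eq]; exact le_top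
  let f := algebraMap S C
  obtain ⟨r, x, hx⟩ := Submodule.fg_iff_exists_fin_generating_family.1
    (IsNoetherian.noetherian (maximalIdeal S ^ k))
  obtain ⟨N, hN⟩ := exists_pow_mul_mem (⊥ : Ideal C)
  obtain ⟨q, μ, hμ⟩ := Submodule.fg_iff_exists_fin_generating_family.1
    (IsNoetherian.noetherian (maximalIdeal S ^ N))
  have hmap : ∀ n, (maximalIdeal S ^ n).map f = maximalIdeal C ^ n := fun n => by
    rw [Ideal.map_pow, hm]
  have hxk : Ideal.span (Set.range fun i => f (x i)) = maximalIdeal C ^ k := by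
    rw [← hmap, ← hx, show Submodule.span S (Set.range x) = Ideal.span (Set.range x) from rfl,
      Ideal.map_span, ← Set.range_comp]
    rfl
  have hμN : Ideal.span (Set.range fun i => f (μ i)) = maximalIdeal C ^ N := by
    rw [← hmap, ← hμ, show Submodule.span S (Set.range μ) = Ideal.span (Set.range μ) from rfl,
      Ideal.map_span, ← Set.range_comp]
    rfl
  have hbot₁ : sat (⊥ : Ideal C) ≤ K₁ := h₁ ▸ sat_mono bot_le
  have hbot₂ : sat (⊥ : Ideal C) ≤ K₂ := h₂ ▸ sat_mono bot_le
  have hmem : ∀ i, ∃ y ∈ K₂, f (x i) - y ∈ K₁ := fun i => by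
    obtain ⟨t, ht, y, hy, hty⟩ := Submodule.mem_sup.1
      (hsum (hxk.le (Ideal.subset_span ⟨i, rfl⟩)))
    have hty' : t + y = f (x i) := hty
    exact ⟨y, hy, by rw [← hty', add_sub_cancel_right]; exact ht⟩
  choose y hy hxy using hmem
  have hrel : ∀ i j, f (x j) * y i - f (x i) * y j ∈ sat (⊥ : Ideal C) := fun i j => by
    refine hinf ⟨?_, sub_mem (K₂.mul_mem_left _ (hy i)) (K₂.mul_mem_left _ (hy j))⟩
    have e : f (x j) * y i - f (x i) * y j =
        f (x i) * (f (x j) - y j) - f (x j) * (f (x i) - y i) := by ring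
    rw [e]
    exact sub_mem (K₁.mul_mem_left _ (hxy j)) (K₁.mul_mem_left _ (hxy i))
  let F : Fin q × Fin r × Fin r → Fin r → S := fun g l =>
    μ g.1 * ((if l = g.2.1 then x g.2.2 else 0) - if l = g.2.2 then x g.2.1 else 0)
  have hF : ∀ (g : Fin q × Fin r × Fin r) (v : Fin r → C),
      ∑ l, F g l • v l = f (μ g.1) * (f (x g.2.2) * v g.2.1 - f (x g.2.1) * v g.2.2) := fun g v => by
    simp only [F, Algebra.smul_def, map_mul, map_sub, apply_ite (algebraMap S C), map_zero,
      mul_assoc, ← Finset.mul_sum, sub_mul, ite_mul, zero_mul, Finset.sum_sub_distrib,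
      Finset.sum_ite_eq', Finset.mem_univ, if_true]
    rfl
  obtain ⟨p, zs, c, hzs, hc⟩ := exists_ker_span F y fun g => by
    rw [hF]
    have := hN _ (hrel g.2.1 g.2.2) (f (μ g.1)) (hμN.le (Ideal.subset_span ⟨_, rfl⟩))
    exact (Submodule.mem_bot _).1 this
  have hsym : ∀ l i j, f (x j) * f (zs l i) - f (x i) * f (zs l j) ∈ sat (⊥ : Ideal C) :=
    fun l i j => ⟨N, fun m hm => by
      rw [← hμN] at hm
      induction hm using Submodule.span_induction with
      | mem m hm =>
        obtain ⟨g, rfl⟩ := hm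
        rw [Submodule.mem_bot]
        have := congrArg f (hzs l (g, i, j))
        rw [map_zero, map_sum] at this
        refine Eq.trans ?_ this
        refine ((hF (g, i, j) fun l' => f (zs l l')).symm).trans ?_
        exact Finset.sum_congr rfl fun l' _ => by rw [map_mul, Algebra.smul_def]
      | zero => simp
      | add a b _ _ ha hb => rw [add_mul]; exact add_mem ha hb
      | smul a b _ hb => rw [smul_eq_mul, mul_assoc]; exact Ideal.mul_mem_left _ _ hb⟩
  have hcd : ∀ l, ∃ (σ : S) (d : Fin r → C), c l = f σ + ∑ j, d j * f (x j) := fun l => by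
    obtain ⟨σ, hσ⟩ := exists_sub_mem_pow hm hres k (c l)
    rw [← hxk, Ideal.mem_span_range_iff_exists_fun] at hσ
    obtain ⟨d, hd⟩ := hσ
    exact ⟨σ, d, by rw [hd, add_sub_cancel]⟩
  choose σ d hd using hcd
  obtain ⟨s₀, hs₀⟩ := hres (∑ l, ∑ j, d l j * f (zs l j))
  set δ : C := (∑ l, ∑ j, d l j * f (zs l j)) - f s₀ with hδ
  let y' : Fin r → S := fun i => (∑ l, zs l i * σ l) + x i * s₀
  have hy' : ∀ i, y i - (f (y' i) + f (x i) * δ) ∈ sat (⊥ : Ideal C) := fun i => by
    have e : y i - (f (y' i) + f (x i) * δ) =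
        ∑ l, ∑ j, d l j * (f (x j) * f (zs l i) - f (x i) * f (zs l j)) := by
      simp only [y', hδ, map_add, map_mul, map_sum, hc i, Algebra.smul_def, hd, mul_add,
        Finset.sum_add_distrib, Finset.mul_sum, mul_sub, Finset.sum_sub_distrib]
      simp only [mul_comm, mul_left_comm]
      abel
    rw [e]
    exact Submodule.sum_mem _ fun l _ => Submodule.sum_mem _ fun j _ =>
      Ideal.mul_mem_left _ _ (hsym l i j)
  let W := (C ⧸ K₁) × (C ⧸ K₂)
  let ι : C →+* W := (Ideal.Quotient.mk K₁).prod (Ideal.Quotient.mk K₂)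
  have hι : ∀ a b : C, a - b ∈ sat (⊥ : Ideal C) → ι a = ι b := fun a b h =>
    Prod.ext (Ideal.Quotient.eq.2 (hbot₁ h)) (Ideal.Quotient.eq.2 (hbot₂ h))
  let e : W := (1, 0)
  let u : W := e - ι δ
  have he : ∀ i, ι (f (x i)) * e = ι (y i) := fun i => by
    refine Prod.ext ?_ ?_
    · show Ideal.Quotient.mk K₁ (f (x i)) * 1 = Ideal.Quotient.mk K₁ (y i)
      rw [mul_one]; exact Ideal.Quotient.eq.2 (hxy i)
    · show Ideal.Quotient.mk K₂ (f (x i)) * 0 = Ideal.Quotient.mk K₂ (y i)
      rw [mul_zero]; exact (Ideal.Quotient.eq_zero_iff_mem.2 (hy i)).symm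
  have hu : ∀ i, ι (f (x i)) * u = ι (f (y' i)) := fun i => by
    rw [mul_sub, he, hι _ _ (hy' i), map_add, map_mul, add_sub_cancel_right]
  have hker : ∀ a : C, ι a = 0 → a ∈ sat (⊥ : Ideal C) := fun a ha =>
    hinf ⟨Ideal.Quotient.eq_zero_iff_mem.1 (congrArg Prod.fst ha),
      Ideal.Quotient.eq_zero_iff_mem.1 (congrArg Prod.snd ha)⟩
  have htf : ∀ w : W, (∀ i, ι (f (x i)) * w = 0) → w = 0 := by
    rintro ⟨a, b⟩ h
    obtain ⟨a, rfl⟩ := Ideal.Quotient.mk_surjective a
    obtain ⟨b, rfl⟩ := Ideal.Quotient.mk_surjective b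
    have key : ∀ (K : Ideal C), sat K = K → ∀ v : C, (∀ i, f (x i) * v ∈ K) → v ∈ K :=
      fun K hK v hv => hK ▸ ⟨k, fun m hm => by
        rw [← hxk] at hm
        induction hm using Submodule.span_induction with
        | mem m hm => obtain ⟨i, rfl⟩ := hm; exact hv i
        | zero => simp
        | add a b _ _ ha hb => rw [add_mul]; exact add_mem ha hb
        | smul a b _ hb => rw [smul_eq_mul, mul_assoc]; exact Ideal.mul_mem_left _ _ hb⟩
    refine Prod.ext (Ideal.Quotient.eq_zero_iff_mem.2 (key K₁ h₁ a fun i => ?_))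
      (Ideal.Quotient.eq_zero_iff_mem.2 (key K₂ h₂ b fun i => ?_))
    · exact Ideal.Quotient.eq_zero_iff_mem.1 ((map_mul _ _ _).trans (congrArg Prod.fst (h i)))
    · exact Ideal.Quotient.eq_zero_iff_mem.1 ((map_mul _ _ _).trans (congrArg Prod.snd (h i)))
  have hWC : ∀ (i : Fin r) (w : W), ∃ z : C, ι z = ι (f (x i)) * w := by
    rintro i ⟨a, b⟩
    obtain ⟨a, rfl⟩ := Ideal.Quotient.mk_surjective a
    obtain ⟨b, rfl⟩ := Ideal.Quotient.mk_surjective b
    refine ⟨y i * a + (f (x i) - y i) * b, Prod.ext ?_ ?_⟩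
    · show Ideal.Quotient.mk K₁ _ = Ideal.Quotient.mk K₁ (f (x i)) * Ideal.Quotient.mk K₁ a
      rw [← map_mul, Ideal.Quotient.eq]
      have e' : y i * a + (f (x i) - y i) * b - f (x i) * a = (f (x i) - y i) * (b - a) := by ring
      rw [e']; exact K₁.mul_mem_right _ (hxy i)
    · show Ideal.Quotient.mk K₂ _ = Ideal.Quotient.mk K₂ (f (x i)) * Ideal.Quotient.mk K₂ b
      rw [← map_mul, Ideal.Quotient.eq]
      have e' : y i * a + (f (x i) - y i) * b - f (x i) * b = y i * (a - b) := by ring
      rw [e']; exact K₂.mul_mem_right _ (hy i)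
  -- descent of membership in the image of `S`
  have L0 : ∀ z : C, (∀ i, ι (f (x i)) * ι z ∈ Set.range (ι ∘ f)) → ι z ∈ Set.range (ι ∘ f) := by
    intro z hz
    choose w hw using hz
    have hzw : ∀ g : Fin q × Fin r, f (μ g.1 * x g.2) * z = f (μ g.1 * w g.2) := fun g => by
      have h0 : f (x g.2) * z - f (w g.2) ∈ sat (⊥ : Ideal C) := hker _ (by
        rw [map_sub, map_mul]; exact sub_eq_zero.2 (hw g.2).symm)
      have := (Submodule.mem_bot _).1 (hN _ h0 (f (μ g.1)) (hμN.le (Ideal.subset_span ⟨_, rfl⟩)))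
      rw [map_mul, map_mul, mul_assoc, ← sub_eq_zero, ← mul_sub]
      exact this
    obtain ⟨z₀, hz₀⟩ := exists_solution (fun g : Fin q × Fin r => μ g.1 * x g.2)
      (fun g => μ g.1 * w g.2) z hzw
    refine ⟨z₀, hι _ _ (sat_sat (⊥ : Ideal C) ▸ ⟨k, fun m hm => ?_⟩)⟩
    rw [← hxk] at hm
    induction hm using Submodule.span_induction with
    | mem m hm =>
      obtain ⟨i, rfl⟩ := hm
      refine ⟨N, fun m hm => ?_⟩
      rw [← hμN] at hm
      induction hm using Submodule.span_induction with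
      | mem m hm =>
        obtain ⟨g, rfl⟩ := hm
        have h3 := hzw (g, i)
        have h4 := congrArg f (hz₀ (g, i))
        simp only [map_mul] at h3 h4
        rw [Submodule.mem_bot]
        linear_combination h4 - h3
      | zero => simp
      | add a b _ _ ha hb => rw [add_mul]; exact add_mem ha hb
      | smul a b _ hb => rw [smul_eq_mul, mul_assoc]; exact Ideal.mul_mem_left _ _ hb
    | zero => simp
    | add a b _ _ ha hb => rw [add_mul]; exact add_mem ha hb
    | smul a b _ hb => rw [smul_eq_mul, mul_assoc]; exact Ideal.mul_mem_left _ _ hb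
  let T : Subalgebra S W :=
    { carrier := {w | ∀ i, ι (f (x i)) * w ∈ Set.range (ι ∘ f)}
      mul_mem' := fun {w w'} hw hw' i => by
        obtain ⟨z, hz⟩ := hWC i (w * w')
        rw [← hz]
        refine L0 z fun j => ?_
        obtain ⟨a, ha⟩ := hw i
        obtain ⟨b, hb⟩ := hw' j
        refine ⟨a * b, ?_⟩
        simp only [Function.comp_apply, map_mul] at ha hb ⊢
        rw [ha, hb, hz]; ring
      one_mem' := fun i => ⟨x i, by simp⟩
      add_mem' := fun {w w'} hw hw' i => by
        obtain ⟨a, ha⟩ := hw i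
        obtain ⟨b, hb⟩ := hw' i
        refine ⟨a + b, ?_⟩
        simp only [Function.comp_apply, map_add] at ha hb ⊢
        rw [mul_add, ha, hb]
      zero_mem' := fun i => ⟨0, by simp⟩
      algebraMap_mem' := fun s i => ⟨x i * s, by
        show ι (f (x i * s)) = ι (f (x i)) * algebraMap S W s
        rw [map_mul, map_mul]; rfl⟩ }
  haveI : Module.Finite S T := by
    let R := LinearMap.range (Algebra.linearMap S W)
    let Φ : T →ₗ[S] (Fin r → R) :=
      { toFun := fun w i => ⟨ι (f (x i)) * w.1, by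
          obtain ⟨a, ha⟩ := w.2 i
          exact ⟨a, ha⟩⟩
        map_add' := fun a b => funext fun i => Subtype.ext (mul_add _ _ _)
        map_smul' := fun s a => funext fun i => Subtype.ext (mul_smul_comm s _ _) }
    haveI : IsNoetherian S R :=
      isNoetherian_of_surjective (Algebra.linearMap S W).rangeRestrict
        (LinearMap.range_rangeRestrict _)
    refine Module.Finite.of_injective Φ ((injective_iff_map_eq_zero _).2 fun w hw => ?_)
    exact Subtype.ext (htf w.1 fun i => congrArg Subtype.val (congrFun hw i))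
  have huT : u ∈ T := fun i => ⟨y' i, (hu i).symm⟩
  -- the two closed points
  let L₁ : C ⧸ K₁ →+* ResidueField C := Ideal.Quotient.lift K₁ (residue C) fun a ha =>
    (residue_eq_zero_iff a).2 (le_maximalIdeal hK₁ ha)
  let L₂ : C ⧸ K₂ →+* ResidueField C := Ideal.Quotient.lift K₂ (residue C) fun a ha =>
    (residue_eq_zero_iff a).2 (le_maximalIdeal hK₂ ha)
  let π₁ : W →+* ResidueField C := L₁.comp (RingHom.fst _ _)
  let π₂ : W →+* ResidueField C := L₂.comp (RingHom.snd _ _)
  have hδm : residue C δ = 0 := (residue_eq_zero_iff _).2 hs₀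
  have hmax : ∀ π : W →+* ResidueField C, (∀ a : C, π (ι a) = residue C a) →
      (RingHom.ker (π.comp T.val.toRingHom)).IsMaximal := fun π hπ => by
    haveI := RingHom.ker_isPrime (π.comp T.val.toRingHom)
    refine Ideal.isMaximal_of_isIntegral_of_isMaximal_comap (R := S) _ ?_
    convert maximalIdeal.isMaximal S
    ext s
    show π (ι (f s)) = 0 ↔ _
    rw [hπ, residue_eq_zero_iff, mem_maximalIdeal, mem_maximalIdeal, mem_nonunits_iff,
      mem_nonunits_iff, isUnit_map_iff f]
  have hπ₁ : ∀ a : C, π₁ (ι a) = residue C a := fun a => rfl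
  have hπ₂ : ∀ a : C, π₂ (ι a) = residue C a := fun a => rfl
  haveI hM₁ := hmax π₁ hπ₁
  have hM₂ := hmax π₂ hπ₂
  have hne : RingHom.ker (π₂.comp T.val.toRingHom) ≠ RingHom.ker (π₁.comp T.val.toRingHom) :=
    fun h => by
    have h2 : (⟨u, huT⟩ : T) ∈ RingHom.ker (π₂.comp T.val.toRingHom) := by
      show π₂ (e - ι δ) = 0
      rw [map_sub, hπ₂, hδm, sub_zero]
      exact map_zero L₂
    rw [h] at h2
    have h1 : π₁ (e - ι δ) = 0 := h2
    rw [map_sub, hπ₁, hδm, sub_zero] at h1
    exact one_ne_zero ((map_one L₁).symm.trans h1)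
  obtain ⟨ε, hε, hεM, hiso⟩ := Henz21.exists_idempotent_isolating (A := S)
    (RingHom.ker (π₁.comp T.val.toRingHom))
  have hεM₂ : ε ∈ RingHom.ker (π₂.comp T.val.toRingHom) := by
    by_contra h
    exact hne (hiso _ hM₂ h)
  have hid : ∀ (K : Ideal C), K ≠ ⊤ → ∀ a : C ⧸ K, a * a = a → a = 0 ∨ a = 1 := fun K hK a ha => by
    haveI : Nontrivial (C ⧸ K) := Ideal.Quotient.nontrivial_iff.2 hK
    haveI : IsLocalRing (C ⧸ K) :=
      IsLocalRing.of_surjective' (Ideal.Quotient.mk K) Ideal.Quotient.mk_surjective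
    rcases IsLocalRing.isUnit_or_isUnit_one_sub_self a with h | h
    · exact Or.inr (h.mul_left_cancel (by rw [mul_one]; exact ha))
    · exact Or.inl (h.mul_left_cancel (by rw [mul_zero, sub_mul, one_mul, ha, sub_self]))
  have hε' : ε.1 * ε.1 = ε.1 := congrArg Subtype.val hε
  have hεe : ε.1 = e := by
    refine Prod.ext ?_ ?_
    · rcases hid K₁ hK₁ _ (congrArg Prod.fst hε') with h | h
      · refine absurd ?_ hεM
        show π₁ ε.1 = 0
        show L₁ (ε.1 : W).1 = 0
        rw [h, map_zero]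
      · exact h
    · rcases hid K₂ hK₂ _ (congrArg Prod.snd hε') with h | h
      · exact h
      · have h2 : L₂ (ε.1 : W).2 = 0 := hεM₂
        rw [h, map_one] at h2
        exact absurd h2 one_ne_zero
  rw [← hx]
  refine Submodule.span_le.2 ?_
  rintro _ ⟨i, rfl⟩
  obtain ⟨s, hs⟩ := ε.2 i
  simp only [Function.comp_apply, hεe, he] at hs
  refine Submodule.mem_sup.2 ⟨x i - s, ?_, s, ?_, sub_add_cancel _ _⟩
  · show f (x i - s) ∈ K₁
    have h1 := Ideal.Quotient.eq.1 (congrArg Prod.fst hs)
    rw [map_sub, show f (x i) - f s = (f (x i) - y i) - (f s - y i) by ring]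
    exact sub_mem (hxy i) h1
  · show f s ∈ K₂
    have h1 := Ideal.Quotient.eq.1 (congrArg Prod.snd hs)
    simpa using add_mem h1 (hy i)

include hm hres in
/-- A partition of the punctured spectrum descends. -/
theorem exists_descent_primes [IsLocalHom (algebraMap S C)] (J J' : Ideal C)
    (hex : ∀ P : Ideal C, P.IsPrime → P ≠ maximalIdeal C → J ≤ P ∨ J' ≤ P)
    (hdisj : ∀ P : Ideal C, P.IsPrime → P ≠ maximalIdeal C → J ≤ P → ¬ J' ≤ P) :
    ∃ L L' : Ideal S, ∀ P : Ideal C, P.IsPrime → P ≠ maximalIdeal C →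
      (J ≤ P ↔ L ≤ P.comap (algebraMap S C)) ∧ (J' ≤ P ↔ L' ≤ P.comap (algebraMap S C)) := by
  have hnil : J * J' * maximalIdeal C ≤ nilradical C := by
    rw [nilradical_eq_sInf]
    refine le_sInf fun P hP => ?_
    by_cases hPm : P = maximalIdeal C
    · rw [hPm]; exact Ideal.mul_le_right
    · rcases hex P hP hPm with h | h
      · exact Ideal.mul_le_left.trans (Ideal.mul_le_left.trans h)
      · exact Ideal.mul_le_left.trans (Ideal.mul_le_right.trans h)
  obtain ⟨N, hN⟩ := IsNoetherianRing.isNilpotent_nilradical C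
  have hzero : J ^ N * J' ^ N * maximalIdeal C ^ N = ⊥ := by
    rw [← mul_pow, ← mul_pow, ← le_bot_iff, ← Ideal.zero_eq_bot, ← hN]
    exact Ideal.pow_right_mono hnil N
  have hrad : maximalIdeal C ≤ (J ^ N ⊔ J' ^ N).radical := by
    rw [Ideal.radical_eq_sInf]
    refine le_sInf fun P ⟨hle, hP⟩ => ?_
    by_contra hPm
    have hne : P ≠ maximalIdeal C := fun h => hPm h.ge
    exact hdisj P hP hne (hP.le_of_pow_le (le_sup_left.trans hle))
      (hP.le_of_pow_le (le_sup_right.trans hle))
  obtain ⟨k, hk⟩ := Ideal.exists_pow_le_of_le_radical_of_fg hrad (IsNoetherian.noetherian _)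
  let K₁ := sat (J ^ N)
  let K₂ := sat (J' ^ N)
  have hinf : K₁ ⊓ K₂ ≤ sat ⊥ := by
    rintro z ⟨⟨a, ha⟩, ⟨b, hb⟩⟩
    refine ⟨(k + N) + (a + b), fun w hw => ?_⟩
    rw [pow_add] at hw
    induction hw using Submodule.mul_induction_on' with
    | add u _ v _ hu hv => rw [add_mul]; exact add_mem hu hv
    | mem_mul_mem u hu v hv =>
      have h1 : v * z ∈ J ^ N := ha v (Ideal.pow_le_pow_right (by omega) hv)
      have h2 : v * z ∈ J' ^ N := hb v (Ideal.pow_le_pow_right (by omega) hv)
      rw [pow_add] at hu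
      induction hu using Submodule.mul_induction_on' with
      | add p _ q _ hp hq => rw [add_mul, add_mul]; exact add_mem hp hq
      | mem_mul_mem p hp q hq =>
        obtain ⟨p₁, hp₁, p₂, hp₂, rfl⟩ := Submodule.mem_sup.1 (hk hp)
        have e : (p₁ + p₂) * q * v * z = p₁ * (v * z) * q + v * z * p₂ * q := by ring
        rw [e, ← hzero]
        exact add_mem (Ideal.mul_mem_mul (Ideal.mul_mem_mul hp₁ h2) hq)
          (Ideal.mul_mem_mul (Ideal.mul_mem_mul h1 hp₂) hq)
  have hdesc := exists_descent hm hres K₁ K₂ (sat_sat _) (sat_sat _) hinf k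
    (hk.trans (sup_le_sup (le_sat _) (le_sat _)))
  have hJ : ∀ P : Ideal C, P.IsPrime → P ≠ maximalIdeal C →
      (J ≤ P → K₁.comap (algebraMap S C) ≤ P.comap (algebraMap S C)) ∧
      (J' ≤ P → K₂.comap (algebraMap S C) ≤ P.comap (algebraMap S C)) := fun P hP hPm =>
    ⟨fun h => Ideal.comap_mono (sat_le_of_ne hPm (by
        intro t ht
        by_cases hN0 : N = 0
        · subst hN0; exact absurd (show (1 : C) = 0 from (Submodule.mem_bot _).1
            (hN ▸ (by simp : (1 : C) ∈ nilradical C ^ 0))) one_ne_zero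
        · exact h (Ideal.pow_le_self hN0 ht))),
     fun h => Ideal.comap_mono (sat_le_of_ne hPm (by
        intro t ht
        by_cases hN0 : N = 0
        · subst hN0; exact absurd (show (1 : C) = 0 from (Submodule.mem_bot _).1
            (hN ▸ (by simp : (1 : C) ∈ nilradical C ^ 0))) one_ne_zero
        · exact h (Ideal.pow_le_self hN0 ht)))⟩
  have hnot : ∀ P : Ideal C, P.IsPrime → P ≠ maximalIdeal C →
      ¬ (K₁.comap (algebraMap S C) ≤ P.comap (algebraMap S C) ∧
        K₂.comap (algebraMap S C) ≤ P.comap (algebraMap S C)) := by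
    rintro P hP hPm ⟨h1, h2⟩
    refine hPm ((le_maximalIdeal hP.ne_top).antisymm ?_)
    rw [← hm, Ideal.map_le_iff_le_comap]
    haveI := hP
    exact (Ideal.comap_isPrime (algebraMap S C) P).le_of_pow_le (hdesc.trans (sup_le h1 h2))
  exact ⟨K₁.comap (algebraMap S C), K₂.comap (algebraMap S C), fun P hP hPm =>
    ⟨⟨(hJ P hP hPm).1, fun h => (hex P hP hPm).resolve_right
        fun h' => hnot P hP hPm ⟨h, (hJ P hP hPm).2 h'⟩⟩,
     ⟨(hJ P hP hPm).2, fun h => (hex P hP hPm).resolve_left
        fun h' => hnot P hP hPm ⟨(hJ P hP hPm).1 h', h⟩⟩⟩⟩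

end Groth.Agent.Brnch26
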