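import Groth.Agent.Brnch26.Stage
import Groth.Agent.Unr55.EtAscent

/-! The base change of a normal domain to a filtered colimit of etale algebras has domains as
local rings. -/

set_option autoImplicit false

namespace Groth.Agent.Brnch26

open scoped TensorProduct
open Groth.Agent CategoryTheory

universe u

variable {A K D : Type u} [CommRing A] [CommRing K] [Algebra A K]
  [CommRing D] [IsDomain D] [IsIntegrallyClosed D] [Algebra A D]

theorem exists_notMem_mul_eq_zero (Q : Ideal (Henz21.H A K ⊗[A] D)) [Q.IsPrime]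
    {a b : Henz21.H A K ⊗[A] D} (hab : a * b = 0) :
    ∃ s ∉ Q, s * a = 0 ∨ s * b = 0 := by
  obtain ⟨i, a', rfl⟩ := exists_stage_tensor (M := D) a
  obtain ⟨j, b', rfl⟩ := exists_stage_tensor (M := D) b
  let k := IsFiltered.max i j
  let up : ∀ {i' : Henz21.Pt A K}, i'.S ⊗[A] D →ₐ[A] Henz21.H A K ⊗[A] D := fun {i'} =>
    Algebra.TensorProduct.map (Henz21.H.incl i') (AlgHom.id A D)
  have hup : ∀ {i' : Henz21.Pt A K} (z : i'.S ⊗[A] D),
      LinearMap.rTensor D (Henz21.H.incl i').toLinearMap z = up z := fun {i'} z => by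
    induction z using TensorProduct.induction_on with
    | zero => simp
    | tmul x y => rfl
    | add x y hx hy => rw [map_add, map_add, hx, hy]
  let tr : ∀ {i' j' : Henz21.Pt A K}, (i' ⟶ j') → (i'.S ⊗[A] D →ₐ[A] j'.S ⊗[A] D) :=
    fun f => Algebra.TensorProduct.map f.φ (AlgHom.id A D)
  have htr : ∀ {i' j' : Henz21.Pt A K} (f : i' ⟶ j') (z : i'.S ⊗[A] D),
      LinearMap.rTensor D f.φ.toLinearMap z = tr f z := fun {i' j'} f z => by
    induction z using TensorProduct.induction_on with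
    | zero => simp
    | tmul x y => rfl
    | add x y hx hy => rw [map_add, map_add, hx, hy]
  have hupt : ∀ {i' j' : Henz21.Pt A K} (f : i' ⟶ j') (z : i'.S ⊗[A] D),
      up (tr f z) = up z := fun {i' j'} f z => by
    induction z using TensorProduct.induction_on with
    | zero => simp
    | tmul x y => simp [up, tr]
    | add x y hx hy => rw [map_add, map_add, map_add, hx, hy]
  simp only [hup] at hab ⊢
  rw [← hupt (IsFiltered.leftToMax i j) a', ← hupt (IsFiltered.rightToMax i j) b'] at hab ⊢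
  generalize tr (IsFiltered.leftToMax i j) a' = a'' at hab ⊢
  generalize tr (IsFiltered.rightToMax i j) b' = b'' at hab ⊢
  obtain ⟨l, f, hf⟩ := exists_stage_eq_zero (M := D) (IsFiltered.max i j) (a'' * b'')
    (by rw [hup, map_mul]; exact hab)
  rw [htr, map_mul] at hf
  rw [← hupt f a'', ← hupt f b'']
  generalize tr f a'' = x at hf ⊢
  generalize tr f b'' = y at hf ⊢
  let c := Algebra.TensorProduct.comm A l.S D
  let g : D ⊗[A] l.S →+* Henz21.H A K ⊗[A] D :=
    (up (i' := l)).toRingHom.comp c.symm.toAlgHom.toRingHom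
  let q := Q.comap g
  have : q.IsPrime := Ideal.comap_isPrime g Q
  obtain ⟨hdom, -⟩ := Unr55.isNormalDomain_localization_of_etale (A := D) q
  have h0 : algebraMap (D ⊗[A] l.S) (Localization.AtPrime q) (c x) *
      algebraMap (D ⊗[A] l.S) (Localization.AtPrime q) (c y) = 0 := by
    rw [← map_mul, ← map_mul, hf, map_zero, map_zero]
  rcases mul_eq_zero.1 h0 with h | h <;>
    obtain ⟨⟨s, hs⟩, hs0⟩ := (IsLocalization.map_eq_zero_iff q.primeCompl _ _).1 h
  · refine ⟨g s, hs, Or.inl ?_⟩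
    have := congrArg g hs0
    rw [map_mul, map_zero] at this
    simpa [g, c] using this
  · refine ⟨g s, hs, Or.inr ?_⟩
    have := congrArg g hs0
    rw [map_mul, map_zero] at this
    simpa [g, c] using this

/-- The unique minimal prime below a prime. -/
theorem exists_isPrime_le_forall_le (Q : Ideal (Henz21.H A K ⊗[A] D)) [Q.IsPrime] :
    ∃ P : Ideal (Henz21.H A K ⊗[A] D), P.IsPrime ∧ P ≤ Q ∧
      ∀ P' : Ideal (Henz21.H A K ⊗[A] D), P'.IsPrime → P' ≤ Q → P ≤ P' := by
  let P : Ideal (Henz21.H A K ⊗[A] D) :=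
    { carrier := {x | ∃ s ∉ Q, s * x = 0}
      zero_mem' := ⟨1, Q.one_notMem, mul_zero _⟩
      add_mem' := fun {x y} ⟨s, hs, hsx⟩ ⟨t, ht, hty⟩ => ⟨s * t,
        fun h => (‹Q.IsPrime›.mem_or_mem h).elim hs ht, by
          rw [mul_add, mul_comm s t, mul_assoc, hsx, mul_zero, zero_add, mul_comm t s, mul_assoc,
            hty, mul_zero]⟩
      smul_mem' := fun r {x} ⟨s, hs, hsx⟩ => ⟨s, hs, by rw [smul_eq_mul, mul_left_comm, hsx, mul_zero]⟩ }
  have hle : ∀ P' : Ideal (Henz21.H A K ⊗[A] D), P'.IsPrime → P' ≤ Q → P ≤ P' :=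
    fun P' hP' hP'Q x ⟨s, hs, hsx⟩ =>
      (hP'.mem_or_mem (show s * x ∈ P' by rw [hsx]; exact P'.zero_mem)).resolve_left
        fun h => hs (hP'Q h)
  refine ⟨P, ⟨fun h => ?_, fun {x y} ⟨s, hs, hsxy⟩ => ?_⟩, hle Q inferInstance le_rfl, hle⟩
  · obtain ⟨s, hs, h1⟩ := (h ▸ Submodule.mem_top : (1 : Henz21.H A K ⊗[A] D) ∈ P)
    rw [mul_one] at h1
    exact hs (h1 ▸ Q.zero_mem)
  · rw [← mul_assoc] at hsxy
    obtain ⟨t, ht, h | h⟩ := exists_notMem_mul_eq_zero Q hsxy
    · exact Or.inl ⟨t * s, fun h' => (‹Q.IsPrime›.mem_or_mem h').elim ht hs, by rwa [mul_assoc]⟩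
    · exact Or.inr ⟨t, ht, h⟩

end Groth.Agent.Brnch26
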