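import Groth.Agent.Brnch26.Decomp
import Groth.Agent.Brnch26.DomainLoc
import Groth.Agent.Henz21.Henselization
import Groth.Agent.Henz21.Flat
import Groth.Agent.Henz21.IntegralLoc
import Mathlib.RingTheory.QuasiFinite.Basic
import Mathlib.RingTheory.Etale.QuasiFinite
import Mathlib.RingTheory.Ideal.GoingDown
import Mathlib.RingTheory.IntegralClosure.IntegrallyClosed

/-!
Minimal primes of the (strict) henselization are branches: they correspond to the maximal ideals of
the base changes of the normalized components.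
-/

set_option autoImplicit false
set_option linter.style.haveILetI false

universe u

open IsLocalRing
open scoped TensorProduct

namespace Groth.Agent.Brnch26

open Groth.Agent

section Comp

variable {A : Type u} [CommRing A] (p : minimalPrimes A)

instance isFractionRing_comp : IsFractionRing (Comp A p) p.1.ResidueField where
  map_units := by
    rintro ⟨d, hd⟩
    exact IsUnit.mk0 _ fun h => nonZeroDivisors.ne_zero hd (Subtype.ext h)
  surj z := by
    obtain ⟨⟨a, ⟨s, hs⟩⟩, h⟩ := IsLocalization.surj (nonZeroDivisors (A ⧸ p.1)) z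
    obtain ⟨a, rfl⟩ := Ideal.Quotient.mk_surjective a
    obtain ⟨s, rfl⟩ := Ideal.Quotient.mk_surjective s
    have hs0 : algebraMap A (Comp A p) s ≠ 0 := fun h' => nonZeroDivisors.ne_zero hs
      (Ideal.Quotient.eq_zero_iff_mem.2 (Ideal.algebraMap_residueField_eq_zero.1
        (congrArg Subtype.val h')))
    refine ⟨⟨algebraMap A (Comp A p) a, ⟨_, mem_nonZeroDivisors_of_ne_zero hs0⟩⟩, ?_⟩
    show z * algebraMap A p.1.ResidueField s = algebraMap A p.1.ResidueField a
    rw [IsScalarTower.algebraMap_apply A (A ⧸ p.1) p.1.ResidueField,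
      IsScalarTower.algebraMap_apply A (A ⧸ p.1) p.1.ResidueField, Ideal.Quotient.algebraMap_eq]
    exact h
  exists_of_eq {x y} h := ⟨1, by rw [Subtype.ext h]⟩

instance isIntegrallyClosed_comp : IsIntegrallyClosed (Comp A p) := by
  rw [isIntegrallyClosed_iff (R := Comp A p) (K := p.1.ResidueField)]
  intro x hx
  exact ⟨⟨x, isIntegral_trans (R := A) x hx⟩, rfl⟩

theorem algebraMap_comp_eq_zero (a : A) : algebraMap A (Comp A p) a = 0 ↔ a ∈ p.1 := by
  rw [← Ideal.algebraMap_residueField_eq_zero (I := p.1)]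
  exact ⟨fun h => congrArg Subtype.val h, fun h => Subtype.ext h⟩

theorem exists_mul_eq_algebraMap (d : Comp A p) :
    ∃ a s : A, s ∉ p.1 ∧ algebraMap A (Comp A p) s * d = algebraMap A (Comp A p) a := by
  obtain ⟨⟨a, ⟨s, hs⟩⟩, h⟩ := IsLocalization.surj (nonZeroDivisors (A ⧸ p.1)) d.1
  obtain ⟨a, rfl⟩ := Ideal.Quotient.mk_surjective a
  obtain ⟨s, rfl⟩ := Ideal.Quotient.mk_surjective s
  refine ⟨a, s, fun h' => nonZeroDivisors.ne_zero hs (Ideal.Quotient.eq_zero_iff_mem.2 h'),
    Subtype.ext ?_⟩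
  show algebraMap A p.1.ResidueField s * d.1 = algebraMap A p.1.ResidueField a
  rw [IsScalarTower.algebraMap_apply A (A ⧸ p.1) p.1.ResidueField,
    IsScalarTower.algebraMap_apply A (A ⧸ p.1) p.1.ResidueField, Ideal.Quotient.algebraMap_eq,
    mul_comm]
  exact h

end Comp

section Over

variable {A K : Type u} [CommRing A] [CommRing K] [Algebra A K]

/-- Primes of the same fibre of an ind-etale algebra are incomparable. -/
theorem eq_of_le_of_comap_eq {P₀ P : Ideal (Henz21.H A K)} [P₀.IsPrime] [P.IsPrime] (hle : P₀ ≤ P)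
    (h : P₀.comap (algebraMap A (Henz21.H A K)) = P.comap (algebraMap A (Henz21.H A K))) :
    P₀ = P := by
  refine le_antisymm hle fun x hx => ?_
  obtain ⟨i, s, rfl⟩ := Henz21.H.exists_rep x
  have h' : (P₀.comap (Henz21.H.incl i).toRingHom).comap (algebraMap A i.S) =
      (P.comap (Henz21.H.incl i).toRingHom).comap (algebraMap A i.S) := by
    rw [Ideal.comap_comap, Ideal.comap_comap]
    rw [show (Henz21.H.incl i).toRingHom.comp (algebraMap A i.S) = algebraMap A (Henz21.H A K) from
      RingHom.ext (Henz21.H.incl i).commutes]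
    exact h
  have := Algebra.QuasiFinite.eq_of_le_of_under_eq (R := A)
    (P₀.comap (Henz21.H.incl i).toRingHom) (P.comap (Henz21.H.incl i).toRingHom)
    (Ideal.comap_mono hle) h'
  exact this.ge hx

end Over

variable {A K : Type u} [CommRing A] [IsLocalRing A] [Field K] [Algebra A K]
  [IsLocalHom (algebraMap A K)] (p : minimalPrimes A)

/-- The base change of a normalized component. -/
abbrev BC (K : Type u) [Field K] [Algebra A K] : Type u := Henz21.H A K ⊗[A] Comp A p

/-- The primes of the henselization over a minimal prime. -/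
abbrev Lying (K : Type u) [Field K] [Algebra A K] : Type u :=
  {P : Ideal (Henz21.H A K) // P.IsPrime ∧ P.comap (algebraMap A (Henz21.H A K)) = p.1}

/-- The left map. -/
noncomputable abbrev inl (K : Type u) [Field K] [Algebra A K] : Henz21.H A K →+* BC p K :=
  Algebra.TensorProduct.includeLeftRingHom

/-- The right map. -/
noncomputable abbrev inr (K : Type u) [Field K] [Algebra A K] : Comp A p →+* BC p K :=
  (Algebra.TensorProduct.includeRight : Comp A p →ₐ[A] BC p K).toRingHom

omit [IsLocalRing A] [IsLocalHom (algebraMap A K)] in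
theorem inr_algebraMap (a : A) :
    inr p K (algebraMap A (Comp A p) a) = algebraMap A (BC p K) a :=
  (Algebra.TensorProduct.includeRight : Comp A p →ₐ[A] BC p K).commutes a

omit [IsLocalRing A] [IsLocalHom (algebraMap A K)] in
theorem comap_inr_eq_bot_of_min {P : Ideal (BC p K)} (hP : P ∈ minimalPrimes (BC p K)) :
    P.comap (inr p K) = ⊥ := by
  refine eq_bot_iff.2 fun d hd => ?_
  by_contra hd0
  rw [Submodule.mem_bot] at hd0
  refine Set.disjoint_left.1 (Ideal.disjoint_nonZeroDivisors_of_mem_minimalPrimes hP) hd ?_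
  have hinj : Function.Injective (LinearMap.lTensor (Henz21.H A K) (LinearMap.mulLeft A d)) :=
    Module.Flat.lTensor_preserves_injective_linearMap _ fun x y h => mul_left_cancel₀ hd0 h
  have hmul : ∀ z : BC p K, inr p K d * z =
      LinearMap.lTensor (Henz21.H A K) (LinearMap.mulLeft A d) z := fun z => by
    induction z using TensorProduct.induction_on with
    | zero => simp
    | tmul x y => simp
    | add x y hx hy => rw [mul_add, map_add, hx, hy]
  refine mem_nonZeroDivisors_iff_right.2 fun z hz => hinj ?_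
  rw [map_zero, ← hmul, mul_comm, hz]

omit [IsLocalRing A] [IsLocalHom (algebraMap A K)] in
theorem comap_algebraMap_eq {P : Ideal (BC p K)} (hP : P.comap (inr p K) = ⊥) :
    (P.comap (inl p K)).comap (algebraMap A (Henz21.H A K)) = p.1 := by
  ext a
  rw [Ideal.mem_comap, Ideal.mem_comap,
    show inl p K (algebraMap A (Henz21.H A K) a) = inr p K (algebraMap A (Comp A p) a) from
      ((inr_algebraMap p a).trans (Algebra.TensorProduct.algebraMap_apply a)).symm,
    ← Ideal.mem_comap (f := inr p K), hP, Submodule.mem_bot, algebraMap_comp_eq_zero]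

omit [IsLocalRing A] [IsLocalHom (algebraMap A K)] in
theorem exists_mul_eq_inl (b : BC p K) :
    ∃ s : A, s ∉ p.1 ∧ ∃ h, algebraMap A (BC p K) s * b = inl p K h := by
  induction b using TensorProduct.induction_on with
  | zero => exact ⟨1, p.1.one_notMem, 0, by simp⟩
  | tmul x d =>
    obtain ⟨a, s, hs, h⟩ := exists_mul_eq_algebraMap p d
    refine ⟨s, hs, a • x, ?_⟩
    rw [← inr_algebraMap]
    show (1 : Henz21.H A K) ⊗ₜ[A] algebraMap A (Comp A p) s * x ⊗ₜ d = (a • x) ⊗ₜ 1
    rw [Algebra.TensorProduct.tmul_mul_tmul, one_mul, h, Algebra.algebraMap_eq_smul_one,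
      TensorProduct.tmul_smul, TensorProduct.smul_tmul']
  | add x y hx hy =>
    obtain ⟨s, hs, g, hg⟩ := hx
    obtain ⟨t, ht, h, hh⟩ := hy
    refine ⟨s * t, fun h' => (p.2.1.1.mem_or_mem h').elim hs ht,
      algebraMap A _ t * g + algebraMap A _ s * h, ?_⟩
    have hr : ∀ r, inl p K (algebraMap A (Henz21.H A K) r) = algebraMap A (BC p K) r :=
      fun r => (Algebra.TensorProduct.algebraMap_apply r).symm
    rw [map_add (inl p K), map_mul (inl p K), map_mul (inl p K), ← hg, ← hh, map_mul, hr, hr]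
    ring

omit [IsLocalRing A] [IsLocalHom (algebraMap A K)] in
theorem le_of_comap_le {P Q : Ideal (BC p K)} [P.IsPrime] [Q.IsPrime]
    (hQ : Q.comap (inr p K) = ⊥) (h : P.comap (inl p K) ≤ Q.comap (inl p K)) : P ≤ Q := by
  intro b hb
  obtain ⟨s, hs, x, hx⟩ := exists_mul_eq_inl p b
  have h1 : inl p K x ∈ Q := h (show inl p K x ∈ P by rw [← hx]; exact P.mul_mem_left _ hb)
  rw [← hx] at h1
  refine (‹Q.IsPrime›.mem_or_mem h1).resolve_left fun h2 => hs ?_
  rw [← algebraMap_comp_eq_zero, ← Submodule.mem_bot (R := Comp A p), ← hQ, Ideal.mem_comap,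
    inr_algebraMap]
  exact h2

theorem exists_isMaximal_unique_ge (P : Ideal (BC p K)) [P.IsPrime] :
    ∃ Q : Ideal (BC p K), Q.IsMaximal ∧ P ≤ Q ∧
      ∀ Q' : Ideal (BC p K), Q'.IsMaximal → P ≤ Q' → Q' = Q := by
  obtain ⟨Q, hQ, hPQ⟩ := Ideal.exists_le_maximal P ‹P.IsPrime›.ne_top
  refine ⟨Q, hQ, hPQ, fun Q' hQ' hPQ' => ?_⟩
  by_contra hne
  obtain ⟨x, hx, hx'⟩ := SetLike.not_le_iff_exists.1 fun h : Q' ≤ Q =>
    hne (hQ'.eq_of_le hQ.ne_top h)
  let π := Ideal.Quotient.mk P
  let R₁ := Algebra.adjoin (Henz21.H A K) ({π x} : Set (BC p K ⧸ P))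
  have : Algebra.IsIntegral (Henz21.H A K) (BC p K ⧸ P) := inferInstance
  have hfin : Module.Finite (Henz21.H A K) R₁ :=
    Module.Finite.iff_fg.2 ((Algebra.IsIntegral.isIntegral (π x)).fg_adjoin_singleton)
  have key : ∀ M : Ideal (BC p K), M.IsMaximal → P ≤ M →
      ((M.map π).comap R₁.val.toRingHom).IsMaximal := fun M hM hPM => by
    have hMmax : (M.map π).IsMaximal := Ideal.IsMaximal.map_of_surjective_of_ker_le
      Ideal.Quotient.mk_surjective (by rwa [Ideal.mk_ker])
    have : Algebra.IsIntegral (Henz21.H A K) R₁ := inferInstance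
    haveI : (M.map π).IsMaximal := hMmax
    haveI : (M.map π).IsPrime := @Ideal.IsMaximal.isPrime (BC p K ⧸ P) _ _ hMmax
    have : ((M.map π).comap R₁.val.toRingHom).IsPrime := Ideal.comap_isPrime _ _
    refine Ideal.isMaximal_of_isIntegral_of_isMaximal_comap (R := Henz21.H A K) _ ?_
    rw [Ideal.comap_comap]
    exact Ideal.isMaximal_comap_of_isIntegral_of_isMaximal (M.map π)
  have h1 := key Q hQ hPQ
  have h2 := key Q' hQ' hPQ'
  obtain ⟨ε, hε, hεQ, hiso⟩ := Henz21.exists_idempotent_isolating (A := Henz21.H A K) ((Q.map π).comap R₁.val.toRingHom)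
  rcases IsIdempotentElem.iff_eq_zero_or_one.1 hε with rfl | rfl
  · exact hεQ (Submodule.zero_mem _)
  · have h3 := hiso _ h2 fun h => h2.ne_top ((Ideal.eq_top_iff_one _).2 h)
    have hmem : (⟨π x, Algebra.subset_adjoin rfl⟩ : R₁) ∈ (Q'.map π).comap R₁.val.toRingHom :=
      Ideal.mem_map_of_mem π hx
    rw [h3] at hmem
    have h4 : π x ∈ Q.map π := hmem
    rw [Ideal.mem_quotient_iff_mem hPQ] at h4
    exact hx' h4

theorem nonempty_lying_equiv : Nonempty (MaximalSpectrum (BC p K) ≃ Lying p K) := by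
  classical
  have hex := fun Q : MaximalSpectrum (BC p K) =>
    haveI := Q.isMaximal.isPrime
    exists_isPrime_le_forall_le (A := A) (K := K) (D := Comp A p) Q.asIdeal
  choose low hlow hlowQ hleast using hex
  have hbot : ∀ Q, (low Q).comap (inr p K) = ⊥ := fun Q =>
    comap_inr_eq_bot_of_min p ⟨⟨hlow Q, bot_le⟩, fun P' hP' hle =>
      hleast Q P' hP'.1 (hle.trans (hlowQ Q))⟩
  let F : MaximalSpectrum (BC p K) → Lying p K := fun Q =>
    haveI := hlow Q
    ⟨(low Q).comap (inl p K), Ideal.comap_isPrime _ _, comap_algebraMap_eq p (hbot Q)⟩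
  refine ⟨Equiv.ofBijective F ⟨fun Q₁ Q₂ h => ?_, fun P => ?_⟩⟩
  · have := hlow Q₁
    have := hlow Q₂
    have h' : (low Q₁).comap (inl p K) = (low Q₂).comap (inl p K) := congrArg Subtype.val h
    have heq : low Q₁ = low Q₂ :=
      le_antisymm (le_of_comap_le p (hbot Q₂) h'.le) (le_of_comap_le p (hbot Q₁) h'.ge)
    obtain ⟨Q, -, -, hu⟩ := exists_isMaximal_unique_ge p (low Q₁)
    exact MaximalSpectrum.ext ((hu _ Q₁.isMaximal (hlowQ Q₁)).trans
      (hu _ Q₂.isMaximal (heq ▸ hlowQ Q₂)).symm)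
  · obtain ⟨P, hP, hPA⟩ := P
    let L := FractionRing (Henz21.H A K ⧸ P)
    have hAL : ∀ a : A, algebraMap A L a = 0 ↔ a ∈ p.1 := fun a => by
      rw [← hPA, Ideal.mem_comap, IsScalarTower.algebraMap_apply A (Henz21.H A K ⧸ P) L,
        IsFractionRing.to_map_eq_zero_iff]
      exact Ideal.Quotient.eq_zero_iff_mem
    let μ : A ⧸ p.1 →+* L := Ideal.Quotient.lift p.1 (algebraMap A L) fun a ha => (hAL a).2 ha
    have hu : ∀ s : nonZeroDivisors (A ⧸ p.1), IsUnit (μ s) := by
      rintro ⟨s, hs⟩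
      obtain ⟨s, rfl⟩ := Ideal.Quotient.mk_surjective s
      exact IsUnit.mk0 _ fun h0 => nonZeroDivisors.ne_zero hs
        (Ideal.Quotient.eq_zero_iff_mem.2 ((hAL s).1 h0))
    let θ : p.1.ResidueField →+* L := IsLocalization.lift hu
    have hθ : ∀ a, θ (algebraMap A p.1.ResidueField a) = algebraMap A L a := fun a => by
      rw [IsScalarTower.algebraMap_apply A (A ⧸ p.1) p.1.ResidueField, IsLocalization.lift_eq]
      rfl
    let g : Comp A p →ₐ[A] L :=
      { θ.comp (algebraMap (Comp A p) p.1.ResidueField) with commutes' := hθ }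
    let f : BC p K →ₐ[A] L :=
      Algebra.TensorProduct.productMap (IsScalarTower.toAlgHom A (Henz21.H A K) L) g
    let P' : Ideal (BC p K) := RingHom.ker f
    have : P'.IsPrime := RingHom.ker_isPrime _
    have hP'H : P'.comap (inl p K) = P := by
      ext h
      show f (h ⊗ₜ 1) = 0 ↔ _
      rw [Algebra.TensorProduct.productMap_apply_tmul, map_one, mul_one]
      show algebraMap (Henz21.H A K) L h = 0 ↔ _
      rw [IsScalarTower.algebraMap_apply (Henz21.H A K) (Henz21.H A K ⧸ P) L,
        IsFractionRing.to_map_eq_zero_iff, Ideal.Quotient.algebraMap_eq,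
        Ideal.Quotient.eq_zero_iff_mem]
    have hP'D : P'.comap (inr p K) = ⊥ := by
      refine eq_bot_iff.2 fun d hd => ?_
      have hd' : f (1 ⊗ₜ d) = 0 := hd
      rw [Algebra.TensorProduct.productMap_apply_tmul, map_one, one_mul] at hd'
      exact Submodule.mem_bot _ |>.2 (Subtype.ext (θ.injective (hd'.trans θ.map_zero.symm)))
    obtain ⟨Q, hQ, hP'Q⟩ := Ideal.exists_le_maximal P' ‹P'.IsPrime›.ne_top
    refine ⟨⟨Q, hQ⟩, Subtype.ext ?_⟩
    have := hlow ⟨Q, hQ⟩
    show (low ⟨Q, hQ⟩).comap (inl p K) = P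
    refine eq_of_le_of_comap_eq ?_ ?_
    · rw [← hP'H]
      exact Ideal.comap_mono (hleast ⟨Q, hQ⟩ P' inferInstance hP'Q)
    · rw [comap_algebraMap_eq p (hbot _), hPA]

omit [IsLocalHom (algebraMap A K)] in
theorem minimalPrimes_comap_mem (P : minimalPrimes (Henz21.H A K)) :
    P.1.comap (algebraMap A (Henz21.H A K)) ∈ minimalPrimes A := by
  obtain ⟨⟨hP, -⟩, hmin⟩ := P.2
  refine ⟨⟨Ideal.comap_isPrime _ _, bot_le⟩, fun q hq hqle => ?_⟩
  have := hq.1
  have : P.1.LiesOver (P.1.comap (algebraMap A (Henz21.H A K))) := ⟨rfl⟩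
  obtain ⟨Q, hQP, hQ, hQq⟩ := Ideal.exists_ideal_le_liesOver_of_le (Q := P.1) hqle
  have : Q = P.1 := le_antisymm hQP (hmin ⟨hQ, bot_le⟩ hQP)
  rw [← this]
  exact hQq.over.ge

omit [IsLocalHom (algebraMap A K)] in
/-- Minimal primes of the henselization, by the minimal prime they lie over. -/
theorem nonempty_minimalPrimes_equiv :
    Nonempty (minimalPrimes (Henz21.H A K) ≃ Σ p : minimalPrimes A, Lying p K) := by
  refine ⟨{
    toFun := fun P => ⟨⟨_, minimalPrimes_comap_mem P⟩, P.1, P.2.1.1, rfl⟩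
    invFun := fun x => ⟨x.2.1, ⟨x.2.2.1, bot_le⟩, fun P' hP' hle => ?_⟩
    left_inv := fun P => rfl
    right_inv := ?_ }⟩
  · have := x.2.2.1
    have := hP'.1
    refine (eq_of_le_of_comap_eq hle (le_antisymm (Ideal.comap_mono hle) ?_)).ge
    rw [x.2.2.2]
    exact x.1.2.2 ⟨Ideal.comap_isPrime _ _, bot_le⟩ (x.2.2.2 ▸ Ideal.comap_mono hle)
  · rintro ⟨⟨q, hq⟩, P, hP, hPq⟩
    simp only at hPq ⊢
    subst hPq
    rfl

theorem card_minimalPrimes_eq :
    ENat.card (minimalPrimes (Henz21.H A K)) =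
      ENat.card (Σ p : minimalPrimes A, MaximalSpectrum (BC p K)) := by
  obtain ⟨e⟩ := nonempty_minimalPrimes_equiv (A := A) (K := K)
  exact ENat.card_congr (e.trans (Equiv.sigmaCongrRight fun p =>
    (nonempty_lying_equiv p).some.symm))

end Groth.Agent.Brnch26
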