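import Groth.Agent.Brnch26.Stages
import Mathlib.AlgebraicGeometry.AffineScheme
import Mathlib.Topology.Sober

/-! Components through a point as maximal generalisations, and as minimal primes of a chart. -/

set_option autoImplicit false

universe u

open AlgebraicGeometry CategoryTheory TopologicalSpace

namespace Groth.Agent.Brnch26

/-- The generalisations of `u` in `F` which are maximal in `F`. -/
def genSet {U : Type*} [TopologicalSpace U] (F : Set U) (u : U) : Set U :=
  {η | η ⤳ u ∧ η ∈ F ∧ ∀ η', η' ⤳ η → η' ∈ F → η' = η}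

theorem encard_components_eq {Y U : Type*} [TopologicalSpace Y] [QuasiSober Y] [T0Space Y]
    [TopologicalSpace U] (ι : Y → U) (hι : Topology.IsInducing ι) (u : U) (hu : u ∈ Set.range ι) :
    {Z : Set Y | Z ∈ irreducibleComponents Y ∧ ∃ u' ∈ Z, ι u' = u}.encard =
      (genSet (Set.range ι) u).encard := by
  obtain ⟨u₀, rfl⟩ := hu
  have hinj : Function.Injective ι := hι.injective
  let G : Set Y := {y | y ⤳ u₀ ∧ ∀ y', y' ⤳ y → y' = y}
  have hR : genSet (Set.range ι) (ι u₀) = ι '' G := by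
    ext η
    constructor
    · rintro ⟨h1, ⟨y, rfl⟩, h3⟩
      exact ⟨y, ⟨hι.specializes_iff.1 h1,
        fun y' hy' => hinj (h3 _ (hι.specializes_iff.2 hy') ⟨y', rfl⟩)⟩, rfl⟩
    · rintro ⟨y, ⟨h1, h2⟩, rfl⟩
      refine ⟨hι.specializes_iff.2 h1, ⟨y, rfl⟩, ?_⟩
      rintro _ hy' ⟨y', rfl⟩
      exact congrArg ι (h2 y' (hι.specializes_iff.1 hy'))
  have hL : {Z : Set Y | Z ∈ irreducibleComponents Y ∧ ∃ u' ∈ Z, ι u' = ι u₀} =
      (fun y => closure {y}) '' G := by
    ext Z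
    constructor
    · rintro ⟨hZ, u', hu', he⟩
      obtain rfl := hinj he
      obtain ⟨ξ, hξ⟩ := QuasiSober.sober hZ.1 (isClosed_of_mem_irreducibleComponents Z hZ)
      have hξ' : closure {ξ} = Z := hξ
      refine ⟨ξ, ⟨specializes_iff_mem_closure.2 (hξ' ▸ hu'), fun y' hy' => ?_⟩, hξ'⟩
      have hsub : Z ≤ closure {y'} := hξ' ▸ closure_minimal
        (Set.singleton_subset_iff.2 (specializes_iff_mem_closure.1 hy')) isClosed_closure
      have hback : closure {y'} ≤ Z := hZ.2 isIrreducible_singleton.closure hsub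
      have hy'' : ξ ⤳ y' := specializes_iff_mem_closure.2 (hξ' ▸ hback (subset_closure rfl))
      exact (hy'.antisymm hy'').eq
    · rintro ⟨y, ⟨h1, h2⟩, rfl⟩
      refine ⟨⟨isIrreducible_singleton.closure, fun t ht hyt => ?_⟩, u₀,
        specializes_iff_mem_closure.1 h1, rfl⟩
      obtain ⟨ξ, hξ⟩ := QuasiSober.sober ht.closure isClosed_closure
      have hξ' : closure {ξ} = closure t := hξ
      have : ξ = y := h2 ξ (specializes_iff_mem_closure.2
        (hξ' ▸ subset_closure (hyt (subset_closure rfl))))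
      exact subset_closure.trans (hξ'.ge.trans (by rw [this]))
  rw [hR, hL, hinj.encard_image]
  refine Set.InjOn.encard_image fun a _ b _ hab => ?_
  exact ((specializes_iff_closure_subset.2 hab.ge).antisymm
    (specializes_iff_closure_subset.2 hab.le)).eq

theorem encard_genSet_eq {R B : Type u} [CommRing R] [CommRing B] [Algebra R B] {X U : Scheme.{u}}
    (g : U ⟶ X) (c : Spec (CommRingCat.of R) ⟶ X) (ψ : Spec (CommRingCat.of B) ⟶ U)
    [IsOpenImmersion ψ]
    (hψ : Spec.map (CommRingCat.ofHom (algebraMap R B)) ≫ c = ψ ≫ g) (T : Set X) (J : Ideal R)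
    (P₀ : Spec (CommRingCat.of B))
    (hT : ∀ v : Spec (CommRingCat.of R), c v ⤳ g (ψ P₀) → (c v ∈ T ↔ J ≤ v.asIdeal)) :
    (genSet (g.base ⁻¹' T) (ψ P₀)).encard = (stageSet J P₀.asIdeal).encard := by
  have hind : Topology.IsInducing ψ := ψ.isOpenEmbedding.isInducing
  have hle : ∀ P Q : Spec (CommRingCat.of B), ψ P ⤳ ψ Q ↔ P.asIdeal ≤ Q.asIdeal := fun P Q =>
    (hind.specializes_iff).trans (PrimeSpectrum.le_iff_specializes P Q).symm
  have hmem : ∀ P : Spec (CommRingCat.of B), ψ P ⤳ ψ P₀ →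
      (g (ψ P) ∈ T ↔ J.map (algebraMap R B) ≤ P.asIdeal) := fun P hP => by
    have h : g (ψ P) = c (Spec.map (CommRingCat.ofHom (algebraMap R B)) P) := by
      rw [← Scheme.Hom.comp_apply, ← hψ, Scheme.Hom.comp_apply]
    rw [h, hT _ (by rw [← h]; exact hP.map g.continuous), Ideal.map_le_iff_le_comap]
    rfl
  have hopen : ∀ η, η ⤳ ψ P₀ → η ∈ Set.range ψ := fun η h =>
    h.mem_open ψ.isOpenEmbedding.isOpen_range ⟨P₀, rfl⟩
  let Φ : Spec (CommRingCat.of B) → U := fun P => ψ P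
  have hinj : Function.Injective Φ := ψ.isOpenEmbedding.injective
  let G : Set (Spec (CommRingCat.of B)) :=
    {P | P.asIdeal ∈ stageSet J P₀.asIdeal}
  have hG : genSet (g.base ⁻¹' T) (ψ P₀) = Φ '' G := by
    ext η
    constructor
    · rintro ⟨h1, h2, h3⟩
      obtain ⟨P, rfl⟩ := hopen η h1
      refine ⟨P, ⟨⟨⟨P.isPrime, (hmem P h1).1 h2⟩, fun q hq hqP => ?_⟩, (hle P P₀).1 h1⟩, rfl⟩
      let Q : Spec (CommRingCat.of B) := ⟨q, hq.1⟩
      have hQP : ψ Q ⤳ ψ P := (hle Q P).2 hqP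
      have : Q = P := hinj (h3 _ hQP ((hmem Q (hQP.trans h1)).2 hq.2))
      rw [← this]
    · rintro ⟨P, ⟨hmin, hP0⟩, rfl⟩
      refine ⟨(hle P P₀).2 hP0, (hmem P ((hle P P₀).2 hP0)).2 hmin.1.2, fun η' hη' hT' => ?_⟩
      obtain ⟨Q, rfl⟩ := hopen η' (hη'.trans ((hle P P₀).2 hP0))
      have hQP := (hle Q P).1 hη'
      have := hmin.2 ⟨Q.isPrime, (hmem Q ((hle Q P₀).2 (hQP.trans hP0))).1 hT'⟩ hQP
      exact congrArg Φ (PrimeSpectrum.ext (le_antisymm hQP this))
  rw [hG, hinj.encard_image]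
  refine (Set.InjOn.encard_image (f := fun P : Spec (CommRingCat.of B) => P.asIdeal)
    fun a _ b _ h => PrimeSpectrum.ext h).symm.trans (congrArg Set.encard ?_)
  ext q
  exact ⟨fun ⟨P, hP, e⟩ => e ▸ hP, fun hq => ⟨⟨q, hq.1.1.1⟩, hq, rfl⟩⟩

theorem encard_stageSet_congr {R B C : Type u} [CommRing R] [CommRing B] [Algebra R B]
    [CommRing C] [Algebra R C] (J : Ideal R) (e : B ≃ₐ[R] C) (q : Ideal C) :
    (stageSet J (q.comap e.toRingEquiv.toRingHom)).encard = (stageSet J q).encard := by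
  have he : J.map (algebraMap R B) = (J.map (algebraMap R C)).comap e.toRingEquiv.toRingHom := by
    rw [← e.toAlgHom.comp_algebraMap, ← Ideal.map_map]
    exact (Ideal.comap_map_of_bijective e.toRingEquiv.toRingHom e.bijective).symm
  have : stageSet J (q.comap e.toRingEquiv.toRingHom) =
      Ideal.comap e.toRingEquiv.toRingHom '' stageSet J q := by
    ext P
    simp only [stageSet, Set.mem_ofPred_eq, Set.mem_image, he,
      Ideal.comap_minimalPrimes_eq_of_surjective (f := e.toRingEquiv.toRingHom) e.surjective]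
    constructor
    · rintro ⟨⟨Q, hQ, rfl⟩, hle⟩
      exact ⟨Q, ⟨hQ, (Ideal.comap_le_comap_iff_of_surjective _ e.surjective _ _).1 hle⟩, rfl⟩
    · rintro ⟨Q, ⟨hQ, hle⟩, rfl⟩
      exact ⟨⟨Q, hQ, rfl⟩, Ideal.comap_mono hle⟩
  rw [this, (Ideal.comap_injective_of_surjective e.toRingEquiv.toRingHom e.surjective).encard_image]

end Groth.Agent.Brnch26
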