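import Groth.Agent.Brnch26.NbhdAlg
import Groth.Agent.Brnch26.NbhdTopo
import Groth.Agent.FlatMor68.FibreStalk
import Groth.Prelude.Def_Hens2
import Mathlib.AlgebraicGeometry.Morphisms.Etale
import Mathlib.AlgebraicGeometry.Stalk

/-! Branch numbers of a point as a supremum over etale neighbourhoods. -/

set_option autoImplicit false
set_option linter.style.haveILetI false

universe u

open AlgebraicGeometry CategoryTheory TopologicalSpace IsLocalRing

namespace Groth.Agent.Brnch26

open Groth.Agent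

theorem residueFieldMap_bijective_of_preimmersion {Z U X : Scheme.{u}} (ℓ : Z ⟶ U) (g : U ⟶ X)
    [IsPreimmersion (ℓ ≫ g)] (z : Z) : Function.Bijective (g.residueFieldMap (ℓ z)) := by
  refine ⟨RingHom.injective _, fun y => ?_⟩
  have hs : Function.Surjective ((ℓ ≫ g).residueFieldMap z) := fun w => by
    obtain ⟨b, rfl⟩ := Z.residue_surjective z w
    obtain ⟨a, rfl⟩ := (ℓ ≫ g).stalkMap_surjective z b
    exact ⟨X.residue _ a, rfl⟩
  obtain ⟨w, hw⟩ := hs (ℓ.residueFieldMap z y)
  rw [Scheme.residueFieldMap_comp] at hw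
  exact ⟨w, (ℓ.residueFieldMap z).hom.injective hw⟩

theorem primeIdealOf_eq {X : Scheme.{u}} {V : X.Opens} (hV : IsAffineOpen V) (x : V)
    (v : Spec Γ(X, V)) (h : hV.fromSpec v = x.1) : v = hV.primeIdealOf x :=
  hV.fromSpec.isOpenEmbedding.injective (h.trans (hV.fromSpec_primeIdealOf x).symm)

theorem appLE_comap_primeIdealOf {U X : Scheme.{u}} (g : U ⟶ X) {V : X.Opens} (hV : IsAffineOpen V)
    {W : U.Opens} (hW : IsAffineOpen W) (e : W ≤ g ⁻¹ᵁ V) (u : U) (hu : u ∈ W) :
    (hW.primeIdealOf ⟨u, hu⟩).asIdeal.comap (g.appLE V W e).hom =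
      (hV.primeIdealOf ⟨g u, e hu⟩).asIdeal := by
  have h := primeIdealOf_eq hV ⟨g u, e hu⟩ (Spec.map (g.appLE V W e) (hW.primeIdealOf ⟨u, hu⟩)) (by
    rw [← Scheme.Hom.comp_apply, IsAffineOpen.SpecMap_appLE_fromSpec g hV hW e,
      Scheme.Hom.comp_apply, hW.fromSpec_primeIdealOf])
  exact congrArg PrimeSpectrum.asIdeal h

theorem evaluation_eq_zero_iff {U : Scheme.{u}} {W : U.Opens} (hW : IsAffineOpen W) (u : U)
    (hu : u ∈ W) (c : Γ(U, W)) :
    U.evaluation W u hu c = 0 ↔ c ∈ (hW.primeIdealOf ⟨u, hu⟩).asIdeal := by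
  letI := U.presheaf.algebra_section_stalk ⟨u, hu⟩
  haveI := hW.isLocalization_stalk ⟨u, hu⟩
  refine Iff.trans ?_ (IsLocalization.AtPrime.to_map_mem_maximal_iff
    (U.presheaf.stalk u) (hW.primeIdealOf ⟨u, hu⟩).asIdeal c)
  exact residue_eq_zero_iff _

section Chart

variable {X : Scheme.{u}} (x : X) (V : X.Opens) (hV : IsAffineOpen V) (hx : x ∈ V)
  {B : Type u} [CommRing B] [IsLocalRing B] (π : X.presheaf.stalk x →+* B)
  (hπ : Function.Surjective π) (J : Ideal Γ(X, V))
  (hker : RingHom.ker π = J.map (X.presheaf.germ V x hx).hom) (T : Set X)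
  (hT : ∀ v : Spec Γ(X, V), hV.fromSpec v ⤳ x → (hV.fromSpec v ∈ T ↔ J ≤ v.asIdeal))

include hV hπ hker hT

theorem numBranches_eq_iSup_nbhds :
    Brnch.numBranches B = ⨆ (U : Scheme.{u}) (g : U ⟶ X) (u : U) (_ : Hens2.IsEtaleNbhd g u x),
      (genSet (g.base ⁻¹' T) u).encard := by
  letI := X.presheaf.algebra_section_stalk ⟨x, hx⟩
  haveI : IsLocalization.AtPrime (X.presheaf.stalk x) (hV.primeIdealOf ⟨x, hx⟩).asIdeal :=
    hV.isLocalization_stalk ⟨x, hx⟩
  rw [numBranches_eq_iSup_stages (hV.primeIdealOf ⟨x, hx⟩).asIdeal π hπ J hker]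
  refine le_antisymm (iSup_le fun i => ?_)
    (iSup_le fun U => iSup_le fun g => iSup_le fun u => iSup_le fun h => ?_)
  · let U : Scheme.{u} := Spec (CommRingCat.of i.S)
    let φ : Γ(X, V) ⟶ CommRingCat.of i.S := CommRingCat.ofHom (algebraMap Γ(X, V) i.S)
    let g : U ⟶ X := Spec.map φ ≫ hV.fromSpec
    let ℓ : Spec (X.residueField x) ⟶ U := Spec.map (CommRingCat.ofHom i.pt.toRingHom)
    haveI : Etale (Spec.map φ) :=
      HasRingHomProperty.Spec_iff.2 (RingHom.etale_algebraMap.2 (inferInstance : Algebra.Etale Γ(X, V) i.S))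
    haveI : Etale g := AlgebraicGeometry.Etale.etale_comp _ _
    let P₀ : Spec (CommRingCat.of i.S) := ℓ (closedPoint _)
    have hℓ : ℓ ≫ g = X.fromSpecResidueField x := by
      rw [Scheme.fromSpecResidueField, ← hV.fromSpecStalk_eq_fromSpecStalk hx,
        IsAffineOpen.fromSpecStalk, ← Spec.map_comp_assoc, ← Category.assoc, ← Spec.map_comp]
      congr 2
      ext r
      exact i.pt.commutes r
    have hgu : g.base P₀ = x := by
      show g (ℓ (closedPoint _)) = x
      rw [← Scheme.Hom.comp_apply, hℓ]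
      exact X.fromSpecResidueField_apply x _
    haveI : IsPreimmersion (ℓ ≫ g) := by rw [hℓ]; infer_instance
    refine le_iSup_of_le U (le_iSup_of_le g (le_iSup_of_le P₀
      (le_iSup_of_le ⟨inferInstance, hgu, residueFieldMap_bijective_of_preimmersion ℓ g _⟩ ?_)))
    have hP : P₀.asIdeal = RingHom.ker i.pt := by
      show (closedPoint (X.residueField x)).asIdeal.comap i.pt.toRingHom = _
      rw [show (closedPoint (X.residueField x)).asIdeal = ⊥ from
        IsLocalRing.maximalIdeal_eq_bot]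
      rfl
    refine (le_of_eq ?_).trans (le_of_eq (encard_genSet_eq g hV.fromSpec (𝟙 U)
      (by simp [g, φ]; rfl) T J P₀ fun v hv => hT v (hgu ▸ hv)).symm)
    rw [hP]
  · haveI := h.etale
    obtain rfl := h.base_eq
    obtain ⟨W, hW, huW, hWV⟩ := exists_isAffineOpen_mem_and_subset (U := g ⁻¹ᵁ V) (x := u) hx
    letI : Algebra Γ(X, V) Γ(U, W) := (g.appLE V W hWV).hom.toAlgebra
    haveI : Algebra.Etale Γ(X, V) Γ(U, W) :=
      HasRingHomProperty.appLE @Etale g h.etale ⟨V, hV⟩ ⟨W, hW⟩ hWV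
    let e := RingEquiv.ofBijective (g.residueFieldMap u).hom h.residue_bijective
    let σ : Γ(U, W) →ₐ[Γ(X, V)] ResidueField (X.presheaf.stalk (g u)) :=
      { e.symm.toRingHom.comp (U.evaluation W u huW).hom with
        commutes' := fun r => by
          show e.symm (U.evaluation W u huW (g.appLE V W hWV r)) = X.evaluation V (g u) hx r
          rw [RingEquiv.symm_apply_eq]
          refine Eq.trans ?_ (Scheme.evaluation_naturality_apply g u hx r).symm
          show U.residue u (U.presheaf.germ W u huW (g.appLE V W hWV r)) =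
            U.residue u (U.presheaf.germ (g ⁻¹ᵁ V) u hx (g.app V r))
          rw [Scheme.Hom.appLE, CommRingCat.comp_apply]
          exact congrArg _ (TopCat.Presheaf.germ_res_apply _ _ _ _ _) }
    obtain ⟨i, e', he'⟩ := Henz21.Pt.exists_equiv Γ(U, W) σ
    refine le_iSup_of_le i (le_of_eq ?_)
    have hq : (RingHom.ker i.pt).comap e'.toRingEquiv.toRingHom =
        (hW.primeIdealOf ⟨u, huW⟩).asIdeal := by
      ext c
      rw [Ideal.mem_comap, RingHom.mem_ker, ← evaluation_eq_zero_iff hW u huW c]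
      show i.pt (e' c) = 0 ↔ _
      rw [he']
      exact map_eq_zero_iff _ e.symm.injective
    rw [← encard_stageSet_congr J e' (RingHom.ker i.pt), hq,
      ← encard_genSet_eq g hV.fromSpec hW.fromSpec
        (IsAffineOpen.SpecMap_appLE_fromSpec g hV hW hWV) T J (hW.primeIdealOf ⟨u, huW⟩)
        (fun v hv => hT v (by rwa [hW.fromSpec_primeIdealOf] at hv))]
    rw [hW.fromSpec_primeIdealOf]

theorem numGeomBranches_eq_iSup_nbhds :
    Brnch.numGeomBranches B = ⨆ (U : Scheme.{u}) (g : U ⟶ X) (u : U) (_ : Etale g ∧ g u = x),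
      (genSet (g.base ⁻¹' T) u).encard := by
  letI := X.presheaf.algebra_section_stalk ⟨x, hx⟩
  haveI : IsLocalization.AtPrime (X.presheaf.stalk x) (hV.primeIdealOf ⟨x, hx⟩).asIdeal :=
    hV.isLocalization_stalk ⟨x, hx⟩
  rw [numGeomBranches_eq_iSup_stages (hV.primeIdealOf ⟨x, hx⟩).asIdeal π hπ J hker]
  refine le_antisymm (iSup_le fun i => ?_)
    (iSup_le fun U => iSup_le fun g => iSup_le fun u => iSup_le fun h => ?_)
  · let U : Scheme.{u} := Spec (CommRingCat.of i.S)
    let φ : Γ(X, V) ⟶ CommRingCat.of i.S := CommRingCat.ofHom (algebraMap Γ(X, V) i.S)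
    let g : U ⟶ X := Spec.map φ ≫ hV.fromSpec
    haveI : Etale (Spec.map φ) :=
      HasRingHomProperty.Spec_iff.2 (RingHom.etale_algebraMap.2 (inferInstance : Algebra.Etale Γ(X, V) i.S))
    haveI : Etale g := AlgebraicGeometry.Etale.etale_comp _ _
    let P₀ : Spec (CommRingCat.of i.S) := ⟨RingHom.ker i.pt, RingHom.ker_isPrime _⟩
    have hp : Spec.map φ P₀ = hV.primeIdealOf ⟨x, hx⟩ := PrimeSpectrum.ext (by
      ext r
      show i.pt (algebraMap Γ(X, V) i.S r) = 0 ↔ _
      rw [AlgHom.commutes, ← IsLocalization.AtPrime.to_map_mem_maximal_iff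
        (X.presheaf.stalk x) (hV.primeIdealOf ⟨x, hx⟩).asIdeal r, ← residue_eq_zero_iff]
      exact map_eq_zero_iff _ (algebraMap (ResidueField (X.presheaf.stalk x))
        (SeparableClosure (ResidueField (X.presheaf.stalk x)))).injective)
    have hgu : g P₀ = x := by
      show (Spec.map φ ≫ hV.fromSpec) P₀ = x
      rw [Scheme.Hom.comp_apply, hp, hV.fromSpec_primeIdealOf]
    refine le_iSup_of_le U (le_iSup_of_le g (le_iSup_of_le P₀
      (le_iSup_of_le ⟨inferInstance, hgu⟩ ?_)))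
    exact le_of_eq (encard_genSet_eq g hV.fromSpec (𝟙 U)
      (by simp [g, φ]; rfl) T J P₀ fun v hv => hT v (hgu ▸ hv)).symm
  · obtain ⟨hg, rfl⟩ := h
    obtain ⟨W, hW, huW, hWV⟩ := exists_isAffineOpen_mem_and_subset (U := g ⁻¹ᵁ V) (x := u) hx
    letI : Algebra Γ(X, V) Γ(U, W) := (g.appLE V W hWV).hom.toAlgebra
    haveI : Algebra.Etale Γ(X, V) Γ(U, W) :=
      HasRingHomProperty.appLE @Etale g hg ⟨V, hV⟩ ⟨W, hW⟩ hWV
    obtain ⟨σ, hσ⟩ := exists_point_sepClosure (A := X.presheaf.stalk (g u))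
      (hV.primeIdealOf ⟨g u, hx⟩).asIdeal (hW.primeIdealOf ⟨u, huW⟩).asIdeal
      (appLE_comap_primeIdealOf g hV hW hWV u huW)
    obtain ⟨i, e', he'⟩ := Henz21.Pt.exists_equiv Γ(U, W) σ
    refine le_iSup_of_le i (le_of_eq ?_)
    have hq : (RingHom.ker i.pt).comap e'.toRingEquiv.toRingHom =
        (hW.primeIdealOf ⟨u, huW⟩).asIdeal := by
      rw [← hσ]
      ext c
      show i.pt (e' c) = 0 ↔ σ c = 0
      rw [he']
    rw [← encard_stageSet_congr J e' (RingHom.ker i.pt), hq,
      ← encard_genSet_eq g hV.fromSpec hW.fromSpec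
        (IsAffineOpen.SpecMap_appLE_fromSpec g hV hW hWV) T J (hW.primeIdealOf ⟨u, huW⟩)
        (fun v hv => hT v (by rwa [hW.fromSpec_primeIdealOf] at hv))]
    rw [hW.fromSpec_primeIdealOf]

end Chart

theorem encard_genSet_univ {U : Scheme.{u}} (u : U) :
    (genSet Set.univ u).encard = {Z : Set U | Z ∈ irreducibleComponents U ∧ u ∈ Z}.encard := by
  rw [← Set.range_id, ← encard_components_eq id Topology.IsInducing.id u ⟨u, rfl⟩]
  congr 1
  ext Z
  simp

theorem numBranchesAt_eq_iSup (X : Scheme.{u}) (x : X) :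
    Brnch.numBranchesAt X x = ⨆ (U : Scheme.{u}) (g : U ⟶ X) (u : U)
      (_ : Hens2.IsEtaleNbhd g u x), {Z : Set U | Z ∈ irreducibleComponents U ∧ u ∈ Z}.encard := by
  obtain ⟨V, hV, hx, -⟩ := exists_isAffineOpen_mem_and_subset (U := (⊤ : X.Opens)) (x := x) trivial
  refine (numBranches_eq_iSup_nbhds x V hV hx (RingHom.id _) Function.surjective_id ⊥
    (by rw [Ideal.map_bot]; exact (RingHom.ker_eq_bot_iff_eq_zero _).2 fun a h => h)
    Set.univ (fun v _ => by simp)).trans ?_
  exact iSup_congr fun U => iSup_congr fun g => iSup_congr fun u => iSup_congr fun _ =>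
    (congrArg (fun F => (genSet F u).encard) Set.preimage_univ).trans (encard_genSet_univ u)

theorem numGeomBranchesAt_eq_iSup (X : Scheme.{u}) (x : X) :
    Brnch.numGeomBranchesAt X x = ⨆ (U : Scheme.{u}) (g : U ⟶ X) (u : U)
      (_ : Etale g ∧ g u = x), {Z : Set U | Z ∈ irreducibleComponents U ∧ u ∈ Z}.encard := by
  obtain ⟨V, hV, hx, -⟩ := exists_isAffineOpen_mem_and_subset (U := (⊤ : X.Opens)) (x := x) trivial
  refine (numGeomBranches_eq_iSup_nbhds x V hV hx (RingHom.id _) Function.surjective_id ⊥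
    (by rw [Ideal.map_bot]; exact (RingHom.ker_eq_bot_iff_eq_zero _).2 fun a h => h)
    Set.univ (fun v _ => by simp)).trans ?_
  exact iSup_congr fun U => iSup_congr fun g => iSup_congr fun u => iSup_congr fun _ =>
    (congrArg (fun F => (genSet F u).encard) Set.preimage_univ).trans (encard_genSet_univ u)

section Fibre

variable {X S : Scheme.{u}} (f : X ⟶ S) (s : S) (z : f.fiber s)

theorem apply_fiberι : f (f.fiberι s z) = s := by
  rw [← Scheme.Hom.comp_apply, Scheme.Hom.fiber_fac, Scheme.Hom.comp_apply,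
    Scheme.fromSpecResidueField_apply]

theorem exists_fibre_chart :
    ∃ (V : X.Opens) (hV : IsAffineOpen V) (hx : f.fiberι s z ∈ V) (J : Ideal Γ(X, V)),
      RingHom.ker ((f.fiberι s).stalkMap z).hom =
        J.map (X.presheaf.germ V (f.fiberι s z) hx).hom ∧
      ∀ v : Spec Γ(X, V), hV.fromSpec v ⤳ f.fiberι s z →
        (hV.fromSpec v ∈ f.base ⁻¹' {s} ↔ J ≤ v.asIdeal) := by
  obtain ⟨W, hW, hsW, -⟩ := exists_isAffineOpen_mem_and_subset (U := (⊤ : S.Opens))
    (x := f (f.fiberι s z)) trivial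
  obtain ⟨V, hV, hx, hVW⟩ := exists_isAffineOpen_mem_and_subset (U := f ⁻¹ᵁ W)
    (x := f.fiberι s z) hsW
  set x' := f.fiberι s z with hx'
  let ps := hW.primeIdealOf ⟨f x', hsW⟩
  refine ⟨V, hV, hx, ps.asIdeal.map (f.appLE W V hVW).hom, ?_, fun v hv => ?_⟩
  · rw [FlatMor68.FibreStalk.ker_fiberι_stalkMap f s z]
    letI := S.presheaf.algebra_section_stalk ⟨f x', hsW⟩
    haveI : IsLocalization.AtPrime (S.presheaf.stalk (f x')) ps.asIdeal :=
      hW.isLocalization_stalk ⟨f x', hsW⟩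
    rw [← IsLocalization.AtPrime.map_eq_maximalIdeal ps.asIdeal (S.presheaf.stalk (f x')),
      Ideal.map_map, Ideal.map_map]
    congr 1
    show (S.presheaf.germ W (f x') hsW ≫ f.stalkMap x').hom =
      (f.appLE W V hVW ≫ X.presheaf.germ V x' hx).hom
    congr 1
    rw [Scheme.Hom.germ_stalkMap, Scheme.Hom.appLE, Category.assoc]
    exact congrArg (f.app W ≫ ·) (X.presheaf.germ_res (homOfLE hVW) x' hx).symm
  · have h1 : f (hV.fromSpec v) = hW.fromSpec (Spec.map (f.appLE W V hVW) v) := by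
      rw [← Scheme.Hom.comp_apply, ← IsAffineOpen.SpecMap_appLE_fromSpec f hW hV hVW,
        Scheme.Hom.comp_apply]
    have hs : f x' = s := apply_fiberι f s z
    have hps : hW.fromSpec ps = f x' := hW.fromSpec_primeIdealOf _
    have hle : Spec.map (f.appLE W V hVW) v ⤳ ps := by
      refine hW.fromSpec.isOpenEmbedding.isInducing.specializes_iff.1 ?_
      rw [← h1, hps]
      exact hv.map f.continuous
    have hle' : (v.asIdeal.comap (f.appLE W V hVW).hom) ≤ ps.asIdeal :=
      (PrimeSpectrum.le_iff_specializes _ _).2 hle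
    rw [Set.mem_preimage, Set.mem_singleton_iff, Ideal.map_le_iff_le_comap]
    constructor
    · intro h
      have : Spec.map (f.appLE W V hVW) v = ps :=
        hW.fromSpec.isOpenEmbedding.injective (by rw [← h1, hps, hs]; exact h)
      exact (congrArg PrimeSpectrum.asIdeal this).ge
    · intro h
      have : Spec.map (f.appLE W V hVW) v = ps := PrimeSpectrum.ext (le_antisymm hle' h)
      show f (hV.fromSpec v) = s
      rw [h1, this, hps, hs]

theorem encard_genSet_fibre {U : Scheme.{u}} (g : U ⟶ X) (u : U) (hu : g u = f.fiberι s z) :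
    (genSet (g.base ⁻¹' (f.base ⁻¹' {s})) u).encard =
      {Z : Set ((g ≫ f).fiber s) | Z ∈ irreducibleComponents ((g ≫ f).fiber s) ∧
        ∃ u' ∈ Z, (g ≫ f).fiberι s u' = u}.encard := by
  have hr : Set.range ((g ≫ f).fiberι s) = g.base ⁻¹' (f.base ⁻¹' {s}) :=
    (g ≫ f).range_fiberι s
  rw [encard_components_eq _ ((g ≫ f).fiberι s).isEmbedding.isInducing u ?_, hr]
  rw [hr]
  show f (g u) = s
  rw [hu, apply_fiberι]

theorem numBranchesAt_fiber_eq_iSup :
    Brnch.numBranchesAt (f.fiber s) z = ⨆ (U : Scheme.{u}) (g : U ⟶ X) (u : U)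
      (_ : Hens2.IsEtaleNbhd g u (f.fiberι s z)),
      {Z : Set ((g ≫ f).fiber s) | Z ∈ irreducibleComponents ((g ≫ f).fiber s) ∧
        ∃ u' ∈ Z, (g ≫ f).fiberι s u' = u}.encard := by
  obtain ⟨V, hV, hx, J, hker, hT⟩ := exists_fibre_chart f s z
  refine (numBranches_eq_iSup_nbhds (f.fiberι s z) V hV hx ((f.fiberι s).stalkMap z).hom
    (FlatMor68.FibreStalk.fiberι_stalkMap_surjective f s z) J hker _ hT).trans ?_
  exact iSup_congr fun U => iSup_congr fun g => iSup_congr fun u => iSup_congr fun h =>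
    encard_genSet_fibre f s z g u h.base_eq

theorem numGeomBranchesAt_fiber_eq_iSup :
    Brnch.numGeomBranchesAt (f.fiber s) z = ⨆ (U : Scheme.{u}) (g : U ⟶ X) (u : U)
      (_ : Etale g ∧ g u = f.fiberι s z),
      {Z : Set ((g ≫ f).fiber s) | Z ∈ irreducibleComponents ((g ≫ f).fiber s) ∧
        ∃ u' ∈ Z, (g ≫ f).fiberι s u' = u}.encard := by
  obtain ⟨V, hV, hx, J, hker, hT⟩ := exists_fibre_chart f s z
  refine (numGeomBranches_eq_iSup_nbhds (f.fiberι s z) V hV hx ((f.fiberι s).stalkMap z).hom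
    (FlatMor68.FibreStalk.fiberι_stalkMap_surjective f s z) J hker _ hT).trans ?_
  exact iSup_congr fun U => iSup_congr fun g => iSup_congr fun u => iSup_congr fun h =>
    encard_genSet_fibre f s z g u h.2

end Fibre

theorem one_le_encard_components {U : Type*} [TopologicalSpace U] (u : U) :
    1 ≤ {Z : Set U | Z ∈ irreducibleComponents U ∧ u ∈ Z}.encard :=
  Set.one_le_encard_iff_nonempty.2
    ⟨_, irreducibleComponent_mem_irreducibleComponents u, mem_irreducibleComponent⟩

end Groth.Agent.Brnch26
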