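import Groth.Agent.Brnch26.Stages
import Mathlib.RingTheory.Etale.Field
import Mathlib.RingTheory.Unramified.LocalRing
import Mathlib.RingTheory.LocalRing.ResidueField.Ideal

/-!
Branch numbers of a quotient of a localization, counted on etale algebras with points.
-/

set_option autoImplicit false
set_option linter.style.haveILetI false

universe u

open IsLocalRing CategoryTheory
open scoped TensorProduct

namespace Groth.Agent.Brnch26

open Groth.Agent

variable {R A B : Type u} [CommRing R] (p : Ideal R) [p.IsPrime] [CommRing A] [IsLocalRing A]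
  [Algebra R A] [IsLocalization.AtPrime A p] [CommRing B] [IsLocalRing B] (π : A →+* B)
  (hπ : Function.Surjective π) (J : Ideal R) (hker : RingHom.ker π = J.map (algebraMap R A))

section

variable {K : Type u} [Field K] [Algebra A K] [IsLocalHom (algebraMap A K)] [Algebra R K]
  [IsScalarTower R A K]

include p in
theorem surjective_proj_of_separable (hK : ∀ α : K, ∃ q : Polynomial A, q.Monic ∧
    q.eval₂ (algebraMap A K) α = 0 ∧ q.derivative.eval₂ (algebraMap A K) α ≠ 0) :
    Function.Surjective (Henz21.H.proj R K) := by
  have hu : ∀ y : p.primeCompl, IsUnit (algebraMap R (Henz21.H R K) y) := fun y => by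
    refine Henz21.H.isUnit_of_isUnit_proj ?_
    rw [AlgHom.commutes, IsScalarTower.algebraMap_apply R A K]
    exact (IsLocalization.map_units A y).map _
  have hc : (Henz21.H.proj R K).toRingHom.comp (IsLocalization.lift (S := A) hu) = algebraMap A K := by
    refine IsLocalization.ringHom_ext p.primeCompl (RingHom.ext fun r => ?_)
    simp only [RingHom.comp_apply, IsLocalization.lift_eq]
    rw [← IsScalarTower.algebraMap_apply R A K]
    exact (Henz21.H.proj R K).commutes r
  intro α
  obtain ⟨q, hq, h0, hd⟩ := hK α
  obtain ⟨a, -, ha⟩ := Henz21.H.exists_root (K := K) (q.map (IsLocalization.lift (S := A) hu))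
    (hq.map _) α (by rw [Polynomial.eval₂_map, hc]; exact h0)
    (by rw [Polynomial.derivative_map, Polynomial.eval₂_map, hc]; exact hd.isUnit)
  exact ⟨a, ha⟩

include p hker in
theorem encard_minimalPrimes_ker_eq_iSup (hsurj : Function.Surjective (Henz21.H.proj R K)) :
    ((RingHom.ker π).map (algebraMap A (Henz21.H A K))).minimalPrimes.encard =
      ⨆ i : Henz21.Pt R K, (stageSet J (RingHom.ker i.pt)).encard := by
  letI : Algebra R (Henz21.H A K) :=
    ((algebraMap A (Henz21.H A K)).comp (algebraMap R A)).toAlgebra
  haveI : IsScalarTower R A (Henz21.H A K) := IsScalarTower.of_algebraMap_eq fun _ => rfl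
  obtain ⟨e⟩ := exists_equiv_atPrime (A := A) p hsurj
  rw [hker, Ideal.map_map, ← IsScalarTower.algebraMap_eq R A (Henz21.H A K),
    ← card_minimalPrimes_map_eq_iSup J]
  have he : J.map (algebraMap R (Henz21.H R K)) =
      (J.map (algebraMap R (Henz21.H A K))).comap e.toRingEquiv.toRingHom := by
    rw [← e.toAlgHom.comp_algebraMap, ← Ideal.map_map]
    exact (Ideal.comap_map_of_bijective e.toRingEquiv.toRingHom e.bijective).symm
  rw [he, Ideal.comap_minimalPrimes_eq_of_surjective e.surjective]
  exact ((Ideal.comap_injective_of_surjective e.toRingEquiv.toRingHom e.surjective).encard_image _).symm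

end

instance isScalarTower_sepClosure :
    IsScalarTower R A (SeparableClosure (ResidueField A)) :=
  IsScalarTower.of_algebraMap_eq fun _ => rfl

omit [IsLocalRing B] in
theorem separable_root_of_sep (α : SeparableClosure (ResidueField A)) :
    ∃ q : Polynomial A, q.Monic ∧
      q.eval₂ (algebraMap A (SeparableClosure (ResidueField A))) α = 0 ∧
      q.derivative.eval₂ (algebraMap A (SeparableClosure (ResidueField A))) α ≠ 0 := by
  have hi : IsIntegral (ResidueField A) α := Algebra.IsIntegral.isIntegral α
  obtain ⟨q, hq, -, hqm⟩ := Polynomial.lifts_and_natDegree_eq_and_monic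
    (Polynomial.map_surjective (residue A) residue_surjective (minpoly (ResidueField A) α))
    (minpoly.monic hi)
  have h1 : ∀ f : Polynomial A, f.eval₂ (algebraMap A (SeparableClosure (ResidueField A))) α =
      Polynomial.aeval α (f.map (residue A)) := fun f => by
    rw [Polynomial.aeval_def, Polynomial.eval₂_map, ← ResidueField.algebraMap_eq,
      ← IsScalarTower.algebraMap_eq]
  refine ⟨q, hqm, by rw [h1, hq, minpoly.aeval], ?_⟩
  rw [h1, ← Polynomial.derivative_map, hq]
  exact Polynomial.Separable.aeval_derivative_ne_zero
    (Algebra.IsSeparable.isSeparable (ResidueField A) α) (minpoly.aeval _ _)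

omit [IsLocalRing B] in
include p in
theorem surjective_proj_residueField :
    Function.Surjective (Henz21.H.proj R (ResidueField A)) :=
  surjective_proj_of_separable (A := A) p fun α => by
    obtain ⟨a, rfl⟩ := residue_surjective α
    refine ⟨Polynomial.X - Polynomial.C a, Polynomial.monic_X_sub_C a, ?_, ?_⟩
    · simp [ResidueField.algebraMap_eq]
    · simp

omit [IsLocalRing B] in
include p in
theorem surjective_proj_separableClosure :
    Function.Surjective (Henz21.H.proj R (SeparableClosure (ResidueField A))) :=
  surjective_proj_of_separable (A := A) p separable_root_of_sep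

include p hπ hker in
theorem numBranches_eq_iSup_stages :
    Brnch.numBranches B =
      ⨆ i : Henz21.Pt R (ResidueField A), (stageSet J (RingHom.ker i.pt)).encard := by
  rw [numBranches_of_surjective (S := Henz21.Henselization A) π hπ]
  exact encard_minimalPrimes_ker_eq_iSup p π J hker (surjective_proj_residueField p)

include p hπ hker in
theorem numGeomBranches_eq_iSup_stages :
    Brnch.numGeomBranches B =
      ⨆ i : Henz21.Pt R (SeparableClosure (ResidueField A)), (stageSet J (RingHom.ker i.pt)).encard := by
  rw [numGeomBranches_of_surjective (S := Henz21.StrictHenselization A) π hπ]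
  exact encard_minimalPrimes_ker_eq_iSup p π J hker (surjective_proj_separableClosure p)

include p in
theorem exists_point_sepClosure {C : Type u} [CommRing C] [Algebra R C] [Algebra.Etale R C]
    (q : Ideal C) [q.IsPrime] (hq : q.comap (algebraMap R C) = p) :
    ∃ σ : C →ₐ[R] SeparableClosure (ResidueField A), RingHom.ker σ = q := by
  let K := SeparableClosure (ResidueField A)
  haveI : q.LiesOver p := ⟨hq.symm⟩
  haveI : Algebra.IsUnramifiedAt R q :=
    Algebra.FormallyUnramified.comp R C (Localization.AtPrime q)
  let _ := Localization.AtPrime.algebraOfLiesOver p q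
  let ι : p.ResidueField →+* K := Ideal.ResidueField.lift p (algebraMap R K)
    (fun r hr => by
      rw [RingHom.mem_ker, IsScalarTower.algebraMap_apply R A K,
        IsScalarTower.algebraMap_apply A (ResidueField A) K, ResidueField.algebraMap_eq,
        (residue_eq_zero_iff _).2 ((IsLocalization.AtPrime.to_map_mem_maximal_iff A p r).2 hr),
        map_zero])
    (fun r hr => IsUnit.mk0 _ fun h0 => by
      rw [IsScalarTower.algebraMap_apply R A K] at h0
      exact ((IsLocalization.map_units A (⟨r, hr⟩ : p.primeCompl)).map (algebraMap A K)).ne_zero h0)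
  letI : Algebra p.ResidueField K := ι.toAlgebra
  let τ : q.ResidueField →ₐ[p.ResidueField] K := IsSepClosed.lift
  have hc : ∀ r, τ (algebraMap C q.ResidueField (algebraMap R C r)) = algebraMap R K r := fun r => by
    rw [← IsScalarTower.algebraMap_apply R C q.ResidueField,
      IsScalarTower.algebraMap_apply R p.ResidueField q.ResidueField, τ.commutes]
    exact Ideal.ResidueField.lift_algebraMap _ _ _ _ _
  refine ⟨{ τ.toRingHom.comp (algebraMap C q.ResidueField) with commutes' := hc }, ?_⟩
  ext c
  show τ (algebraMap C q.ResidueField c) = 0 ↔ c ∈ q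
  exact (map_eq_zero τ).trans Ideal.algebraMap_residueField_eq_zero

end Groth.Agent.Brnch26
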