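import Groth.Agent.Henz21.Colim
import Mathlib.LinearAlgebra.TensorProduct.RightExactness
import Mathlib.LinearAlgebra.DirectSum.Finsupp
import Mathlib.RingTheory.Smooth.Flat

/-! Descent of tensors from a filtered colimit of etale algebras to a stage. -/

set_option autoImplicit false

namespace Groth.Agent.Brnch26

open scoped TensorProduct
open Groth.Agent CategoryTheory

universe u w

variable {S K : Type u} [CommRing S] [CommRing K] [Algebra S K]

variable {M : Type w} [AddCommGroup M] [Module S M]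

theorem exists_stage_tensor (x : Henz21.H S K ⊗[S] M) :
    ∃ (i : Henz21.Pt S K) (y : i.S ⊗[S] M),
      LinearMap.rTensor M (Henz21.H.incl i).toLinearMap y = x := by
  induction x using TensorProduct.induction_on with
  | zero => exact ⟨Henz21.H.base S K, 0, map_zero _⟩
  | tmul h m =>
    obtain ⟨i, s, rfl⟩ := Henz21.H.exists_rep h
    exact ⟨i, s ⊗ₜ m, by simp⟩
  | add x y hx hy =>
    obtain ⟨i, x', rfl⟩ := hx
    obtain ⟨j, y', rfl⟩ := hy
    refine ⟨IsFiltered.max i j,
      LinearMap.rTensor M (IsFiltered.leftToMax i j).φ.toLinearMap x' +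
        LinearMap.rTensor M (IsFiltered.rightToMax i j).φ.toLinearMap y', ?_⟩
    rw [map_add, ← LinearMap.rTensor_comp_apply, ← LinearMap.rTensor_comp_apply,
      ← AlgHom.comp_toLinearMap, ← AlgHom.comp_toLinearMap, Henz21.H.incl_comp,
      Henz21.H.incl_comp]

theorem exists_stage_finsupp_zero {ι : Type*} (i : Henz21.Pt S K) (v : ι →₀ i.S)
    (hv : ∀ m, Henz21.H.incl i (v m) = 0) :
    ∃ (k : Henz21.Pt S K) (f : i ⟶ k), ∀ m, f.φ (v m) = 0 := by
  classical
  suffices h : ∀ s : Finset ι, ∃ (k : Henz21.Pt S K) (f : i ⟶ k), ∀ m ∈ s, f.φ (v m) = 0 by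
    obtain ⟨k, f, hf⟩ := h v.support
    refine ⟨k, f, fun m => ?_⟩
    by_cases hm : m ∈ v.support
    · exact hf m hm
    · rw [Finsupp.notMem_support_iff.1 hm, map_zero]
  intro s
  induction s using Finset.induction with
  | empty => exact ⟨i, 𝟙 i, by simp⟩
  | insert a s ha ih =>
    obtain ⟨k, f, hf⟩ := ih
    have h0 : Henz21.H.incl k (f.φ (v a)) = Henz21.H.incl k 0 := by
      rw [Henz21.H.incl_φ, hv, map_zero]
    obtain ⟨l, g₁, g₂, hg⟩ := (Henz21.H.incl_eq_iff _ _).1 h0
    refine ⟨l, f ≫ g₁, fun m hm => ?_⟩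
    rcases Finset.mem_insert.1 hm with rfl | hm
    · simpa using hg
    · simp [hf m hm]

theorem exists_preimage_of_lTensor_eq_zero {S' : Type*} [CommRing S'] {Q : Type*} [CommRing Q]
    [Algebra S' Q] {N P : Type*} [AddCommGroup N] [Module S' N] [AddCommGroup P] [Module S' P]
    (p : N →ₗ[S'] P) (hp : Function.Surjective p) (x : Q ⊗[S'] N)
    (hx : LinearMap.lTensor Q p x = 0) :
    ∃ y, LinearMap.lTensor Q (LinearMap.ker p).subtype y = x :=
  ((lTensor_exact Q (LinearMap.exact_subtype_ker_map p) hp) x).1 hx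

theorem lTensor_rTensor_comm {S' : Type*} [CommSemiring S'] {Q Q' : Type*} [AddCommMonoid Q]
    [Module S' Q] [AddCommMonoid Q'] [Module S' Q'] {N P : Type*} [AddCommMonoid N] [Module S' N]
    [AddCommMonoid P] [Module S' P] (p : N →ₗ[S'] P) (g : Q →ₗ[S'] Q') (z : Q ⊗[S'] N) :
    LinearMap.lTensor Q' p (LinearMap.rTensor N g z) =
      LinearMap.rTensor P g (LinearMap.lTensor Q p z) := by
  induction z using TensorProduct.induction_on with
  | zero => simp
  | tmul a b => simp
  | add a b ha hb => simp [ha, hb]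

theorem exists_stage_eq_zero (i : Henz21.Pt S K) (x : i.S ⊗[S] M)
    (hx : LinearMap.rTensor M (Henz21.H.incl i).toLinearMap x = 0) :
    ∃ (k : Henz21.Pt S K) (f : i ⟶ k), LinearMap.rTensor M f.φ.toLinearMap x = 0 := by
  classical
  let p : (M →₀ S) →ₗ[S] M := Finsupp.linearCombination S id
  have hp : Function.Surjective p := fun m => ⟨Finsupp.single m 1, by simp [p]⟩
  obtain ⟨x₀, rfl⟩ := LinearMap.lTensor_surjective i.S hp x
  let K₀ := LinearMap.ker p
  obtain ⟨y, hy⟩ : ∃ y, LinearMap.lTensor (Henz21.H S K) K₀.subtype y =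
      LinearMap.rTensor (M →₀ S) (Henz21.H.incl i).toLinearMap x₀ := by
    refine exists_preimage_of_lTensor_eq_zero p hp _ ?_
    rw [lTensor_rTensor_comm]
    exact hx
  obtain ⟨j, y', rfl⟩ := exists_stage_tensor (M := K₀) y
  let k := IsFiltered.max i j
  let f₁ : i ⟶ k := IsFiltered.leftToMax i j
  let f₂ : j ⟶ k := IsFiltered.rightToMax i j
  let e := TensorProduct.finsuppScalarRight S S k.S M
  let d : k.S ⊗[S] (M →₀ S) := LinearMap.rTensor (M →₀ S) f₁.φ.toLinearMap x₀ -
    LinearMap.lTensor k.S K₀.subtype (LinearMap.rTensor K₀ f₂.φ.toLinearMap y')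
  have hd : LinearMap.rTensor (M →₀ S) (Henz21.H.incl k).toLinearMap d = 0 := by
    have h1 : (Henz21.H.incl k).toLinearMap ∘ₗ f₁.φ.toLinearMap = (Henz21.H.incl i).toLinearMap :=
      LinearMap.ext fun s => Henz21.H.incl_φ f₁ s
    have h2 : (Henz21.H.incl k).toLinearMap ∘ₗ f₂.φ.toLinearMap = (Henz21.H.incl j).toLinearMap :=
      LinearMap.ext fun s => Henz21.H.incl_φ f₂ s
    have h3 := fun z => lTensor_rTensor_comm K₀.subtype (Henz21.H.incl k).toLinearMap z
    rw [map_sub, ← h3, ← LinearMap.rTensor_comp_apply, ← LinearMap.rTensor_comp_apply, h1, h2, hy,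
      sub_self]
  have hcoord : ∀ m, Henz21.H.incl k (e d m) = 0 := by
    intro m
    have h1 : ∀ z : k.S ⊗[S] (M →₀ S),
        (TensorProduct.finsuppScalarRight S S (Henz21.H S K) M
          (LinearMap.rTensor (M →₀ S) (Henz21.H.incl k).toLinearMap z)) m =
          Henz21.H.incl k (e z m) := by
      intro z
      induction z using TensorProduct.induction_on with
      | zero => simp
      | tmul a b => simp [e, TensorProduct.finsuppScalarRight_apply_tmul_apply, map_smul]
      | add a b ha hb => simp [ha, hb]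
    rw [← h1, hd, map_zero, Finsupp.zero_apply]
  obtain ⟨l, g, hg⟩ := exists_stage_finsupp_zero k (e d) hcoord
  refine ⟨l, f₁ ≫ g, ?_⟩
  have hzero : LinearMap.rTensor (M →₀ S) g.φ.toLinearMap d = 0 := by
    apply (TensorProduct.finsuppScalarRight S S l.S M).injective
    rw [map_zero]
    ext m
    have h1 : ∀ z : k.S ⊗[S] (M →₀ S),
        (TensorProduct.finsuppScalarRight S S l.S M
          (LinearMap.rTensor (M →₀ S) g.φ.toLinearMap z)) m = g.φ (e z m) := by
      intro z
      induction z using TensorProduct.induction_on with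
      | zero => simp
      | tmul a b => simp [e, TensorProduct.finsuppScalarRight_apply_tmul_apply, map_smul]
      | add a b ha hb => simp [ha, hb]
    rw [h1, hg, Finsupp.zero_apply]
  have hpK : ∀ z : k.S ⊗[S] K₀, LinearMap.lTensor k.S p (LinearMap.lTensor k.S K₀.subtype z) = 0 := by
    intro z
    rw [← LinearMap.comp_apply, ← LinearMap.lTensor_comp, LinearMap.comp_ker_subtype]
    simp
  have := congrArg (LinearMap.lTensor l.S p) hzero
  rw [map_zero, ← LinearMap.comp_apply, LinearMap.lTensor_comp_rTensor,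
    ← LinearMap.rTensor_comp_lTensor, LinearMap.comp_apply, map_sub, hpK, sub_zero,
    ← LinearMap.comp_apply (f := LinearMap.lTensor k.S p), LinearMap.lTensor_comp_rTensor,
    ← LinearMap.rTensor_comp_lTensor, LinearMap.comp_apply, ← LinearMap.rTensor_comp_apply] at this
  rw [← this]
  rfl

end Groth.Agent.Brnch26
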